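import Mathlib
import Cfsg.Agent.Base
import Cfsg.Agent.Lib.Ord.Flt2

/-! Definitions for the numerical checks on simple groups of order 50232960. -/

set_option autoImplicit false

open H4.Sv H17.Ord

namespace H8.J3O

/-- the columns, with a shortcut when some degree has no admissible value -/
noncomputable def cl (N p e c C : ℕ) (f : ℕ → ℤ → Bool) (o : List ℕ) : List (List (ℕ × ℤ)) :=
  bif o.any (fun d => (cnd N C f d).isEmpty) then [] else cols N p e c C f o

def sylOK (p e c k C : ℕ) : Bool :=
  (divs (p * c * e)).any fun x => x % (p * k) == 0 && C % x == 0 && C / x % p == 1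

/-- the bilinear pair sum -/
def bil (N p e : ℕ) (A A' : List (ℕ × ℤ)) : ℤ :=
  (List.zipWith (fun x y => wt p e x.1 * (x.2 * y.2 * (N / x.1 : ℕ))) A A').sum

/-- the number of inverting conjugates read off a column -/
def mOf (N p e c C : ℕ) (A : List (ℕ × ℤ)) : ℕ :=
  Nat.sqrt ((p * c * (((p - 1) / e : ℕ) * N + bil N p e A A)).toNat / ((p - 1) / e * C * C))

/-- signed degree -/
def sd (p e d : ℕ) : ℤ := (if d % p = 1 then 1 else if d % p = p - 1 then -1 else wt p e d) * d

/-- some sublist containing `a` has `s +` its sum divisible by `Q` -/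
def ss (Q : ℕ) (a : ℤ) : List ℤ → ℤ → Bool → Bool
  | [], s, b => b && s % Q == 0
  | x :: l, s, b => ss Q a l s b || ss Q a l (s + x) (b || x == a)

def f19 (d : ℕ) : Bool := [0, 1, 18, 9, 10].contains (d % 19)

def f17 (d : ℕ) : Bool := [0, 1, 16, 8, 9].contains (d % 17)

/-- no admissible part of the block containing degree `a` has a sum divisible by `Q` -/
def noBT (al : ℕ → Bool) (a Q : ℕ) (o : List ℕ) : Bool :=
  good 17 8 o && !ss Q (sd 17 8 a) (((excD 17 8 o :: nonE 17 8 o).filter al).map (sd 17 8)) 0 false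

end H8.J3O
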