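import Mathlib
import Cfsg.Agent.Base
import Cfsg.Agent.Lib.Invol.Count
import Cfsg.Agent.Lib.J3O.Defs

/-! Columns of involutions on a principal block of defect one, with a fixed enumeration of the
block, and the number of conjugates inverting the defect group. -/

set_option autoImplicit false
set_option linter.unusedSectionVars false
set_option linter.style.haveILetI false

open Cfsg H4.Sv H17.Ord

namespace H8.J3O

variable {G : Type*} [Group G] [Finite G] {p : ℕ} [hp : Fact p.Prime] {P : Subgroup G} {e : ℕ}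

theorem bil_map (N p e : ℕ) (u v : IrrCharacter G → ℤ) (L : List (IrrCharacter G)) :
    bil N p e (L.map (pr u)) (L.map (pr v)) =
      (L.map fun χ => wt p e (dg χ) * (u χ * v χ * (N / dg χ : ℕ))).sum := by
  rw [bil, List.zipWith_map, List.zipWith_self]; rfl

theorem u_triv {s : G} {u : IrrCharacter G → ℤ} (hu : ∀ χ : IrrCharacter G, (χ : G → ℂ) s = u χ) :
    u (triv G) = 1 := by
  have := hu (triv G)
  rw [triv_apply] at this
  exact_mod_cast this.symm

theorem bil_eq (B : PB G p P e) (he : 1 < e) {N c : ℕ} (hG : Nat.card G = N)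
    (hc : Nat.card (Subgroup.centralizer (P : Set G)) = p * c) {L : List (IrrCharacter G)}
    (hn : L.Nodup) (hL : ∀ χ, χ ∈ L ↔ (χ ∈ B.X ∨ χ ∈ B.Y) ∧ χ ≠ triv G) {s s' : G}
    (hs : orderOf s = 2) (hs' : orderOf s' = 2) {u v : IrrCharacter G → ℤ}
    (hu : ∀ χ : IrrCharacter G, (χ : G → ℂ) s = u χ)
    (hv : ∀ χ : IrrCharacter G, (χ : G → ℂ) s' = v χ) :
    (((p - 1) / e * (nInv P s * Nat.card (Subgroup.centralizer ({s} : Set G)) *
      (nInv P s' * Nat.card (Subgroup.centralizer ({s'} : Set G)))) : ℕ) : ℤ) =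
      p * c * (((p - 1) / e : ℕ) * N + bil N p e (L.map (pr u)) (L.map (pr v))) := by
  classical
  have h3 := B.three_le he
  have w1 : wt p e 1 = ((p - 1) / e : ℕ) := by rw [wt, if_pos (Nat.mod_eq_of_lt (by omega))]
  have n1 : triv G ∉ L := fun h => ((hL _).mp h).2 rfl
  have hS : B.X ∪ B.Y = (triv G :: L).toFinset := by
    ext χ
    rw [Finset.mem_union, List.mem_toFinset, List.mem_cons, hL]
    refine ⟨fun h => (eq_or_ne χ (triv G)).imp_right fun k => ⟨h, k⟩, ?_⟩
    rintro (rfl | h)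
    exacts [B.one_mem, h.1]
  have k := B.pair_sq he hc hs hs'
  rw [Finset.mul_sum, Finset.sum_congr rfl fun χ _ => show _ = ((wt p e (dg χ) *
      (u χ * v χ * (N / dg χ : ℕ)) : ℤ) : ℂ) by
        rw [hu, hv, Int.cast_mul, Int.cast_mul, Int.cast_mul, Int.cast_natCast,
          Nat.cast_div (hG ▸ dg_dvd χ) (Nat.cast_ne_zero.mpr (dg_pos χ).ne'), hG]; ring,
      ← Int.cast_sum, hS, List.sum_toFinset _ (List.nodup_cons.mpr ⟨n1, hn⟩), List.map_cons,
      List.sum_cons, dg_triv, w1, u_triv hu, u_triv hv, Nat.div_one, ← bil_map, one_mul,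
      one_mul] at k
  apply Int.cast_injective (α := ℂ)
  push_cast at k ⊢
  exact k

theorem nInv_eq (B : PB G p P e) (he : 1 < e) {N c : ℕ} (hG : Nat.card G = N)
    (hc : Nat.card (Subgroup.centralizer (P : Set G)) = p * c) {L : List (IrrCharacter G)}
    (hn : L.Nodup) (hL : ∀ χ, χ ∈ L ↔ (χ ∈ B.X ∨ χ ∈ B.Y) ∧ χ ≠ triv G) {s : G}
    (hs : orderOf s = 2) {u : IrrCharacter G → ℤ}
    (hu : ∀ χ : IrrCharacter G, (χ : G → ℂ) s = u χ) :
    mOf N p e c (Nat.card (Subgroup.centralizer ({s} : Set G))) (L.map (pr u)) = nInv P s := by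
  have h3 := B.three_le he
  have t0 : 0 < (p - 1) / e := Nat.div_pos (Nat.le_of_dvd (by omega) B.e_dvd) (by omega)
  have c0 : 0 < Nat.card (Subgroup.centralizer ({s} : Set G)) := Nat.card_pos
  rw [mOf, ← bil_eq B he hG hc hn hL hs hs hu hu, Int.toNat_natCast]
  generalize Nat.card (Subgroup.centralizer ({s} : Set G)) = C at *
  rw [show (p - 1) / e * (nInv P s * C * (nInv P s * C)) =
    (p - 1) / e * C * C * (nInv P s * nInv P s) by ring,
    Nat.mul_div_cancel_left _ (by positivity), Nat.sqrt_eq]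

theorem colsL [IsSimpleGroup G] (B : PB G p P e) (hna : ∃ a b : G, a * b ≠ b * a)
    (he : 1 < e) {N c : ℕ} (hG : Nat.card G = N)
    (hc : Nat.card (Subgroup.centralizer (P : Set G)) = p * c) [DecidableEq (IrrCharacter G)]
    {o : List ℕ} (h : ∀ d, d ≠ 1 → cnt (B.X ∪ B.Y) d = o.count d) (hg : good p e o = true) :
    ∃ L : List (IrrCharacter G), L.Nodup ∧ (∀ χ, χ ∈ L ↔ (χ ∈ B.X ∨ χ ∈ B.Y) ∧ χ ≠ triv G) ∧
      L.map dg = nonE p e o ++ List.replicate ((p - 1) / e) (excD p e o) ∧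
      ∀ {s : G} {u : IrrCharacter G → ℤ} {f : ℕ → ℤ → Bool}, orderOf s = 2 →
        (∀ χ : IrrCharacter G, (χ : G → ℂ) s = u χ) →
        (∀ χ, χ ∈ B.X ∨ χ ∈ B.Y → f (dg χ) (u χ) = true) →
        L.map (pr u) ∈ cl N p e c (Nat.card (Subgroup.centralizer ({s} : Set G))) f o := by
  simp only [H17.Ord.good, Bool.and_eq_true, List.isPerm_iff, Bool.or_eq_true, beq_iff_eq,
    Bool.not_eq_true', List.contains_eq_mem, decide_eq_false_iff_not] at hg
  obtain ⟨g1, g2, g3⟩ := hg
  have h3 := B.three_le he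
  have t0 : 0 < (p - 1) / e := Nat.div_pos (Nat.le_of_dvd (by omega) B.e_dvd) (by omega)
  obtain ⟨L, l1, l2, l3, l4⟩ := B.enum_blk hna (fun k => g3 (g1.subset k))
    fun d hd => (h d hd).trans (g1.count_eq d).symm
  obtain ⟨a, L, rfl, a1, l0⟩ := List.map_eq_cons_iff.mp l1
  obtain rfl := eq_triv_of_dg hna a1
  obtain ⟨n1, n2⟩ := List.nodup_cons.mp l2
  have hL : ∀ χ, χ ∈ L ↔ (χ ∈ B.X ∨ χ ∈ B.Y) ∧ χ ≠ triv G := fun χ =>
    ⟨fun k => ⟨(l3 χ).mp (List.mem_cons_of_mem _ k), fun k' => n1 (k' ▸ k)⟩,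
      fun k => (List.mem_cons.mp ((l3 χ).mpr k.1)).resolve_left k.2⟩
  refine ⟨L, n2, hL, l0, fun {s u f} hs hu hf => ?_⟩
  set C := Nat.card (Subgroup.centralizer ({s} : Set G)) with hC
  have r : ¬ p ∣ orderOf s := fun h => by have := Nat.le_of_dvd two_pos (hs ▸ h); omega
  have hm : ∀ χ ∈ L, u χ ∈ cnd N C f (dg χ) := fun χ hχ =>
    mem_cnd hna hG hs hC.symm hu (fun k => n1 (eq_triv_of_dg hna k ▸ hχ))
      (hf χ ((l3 χ).mp (List.mem_cons_of_mem _ hχ)))
  rw [cl, List.any_eq_false.mpr fun d hd => ?_, cond_false]; swap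
  · obtain ⟨χ, c1, rfl⟩ := List.mem_map.mp (l0 ▸ g1.symm.subset hd)
    rw [List.isEmpty_eq_false_iff_exists_mem.mpr ⟨_, hm χ c1⟩]; simp
  have kb := bil_eq B he hG hc n2 hL hs hs hu hu
  obtain ⟨L1, L2, rfl, m1, m2⟩ := List.map_eq_append_iff.mp l0
  have len : L2.length = (p - 1) / e := by simpa using congrArg List.length m2
  obtain ⟨θ, hθ⟩ := List.exists_mem_of_length_pos (len ▸ t0)
  have d2 : ∀ χ ∈ L2, dg χ = excD p e o := fun χ hχ =>
    List.eq_of_mem_replicate (m2 ▸ List.mem_map_of_mem hχ)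
  have e2 : L2.map (pr u) = List.replicate ((p - 1) / e) (excD p e o, u θ) := by
    refine List.eq_replicate_iff.mpr ⟨by simpa using len, fun x hx => ?_⟩
    obtain ⟨χ, hχ, rfl⟩ := List.mem_map.mp hx
    refine Prod.ext (d2 χ hχ) ?_
    rcases g2 with g2 | g2
    · rw [g2, Nat.div_self (by omega)] at len
      obtain ⟨a, rfl⟩ := List.length_eq_one_iff.mp len
      rw [List.mem_singleton.mp hχ, List.mem_singleton.mp hθ]; rfl
    · have : ∀ χ ∈ L2, χ ∈ B.Y := fun χ hχ =>
        ((l3 χ).mp (List.mem_cons_of_mem _ (List.mem_append_right _ hχ))).resolve_left fun k => by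
          have := B.modX k
          rw [d2 χ hχ] at this
          simp only [isX, Bool.or_eq_false_iff, beq_eq_false_iff_ne] at g2
          omega
      have := B.regY _ (this χ hχ) _ (this θ hθ) s r
      rw [hu, hu] at this
      exact_mod_cast this
  have w1 : wt p e 1 = ((p - 1) / e : ℕ) := by rw [wt, if_pos (Nat.mod_eq_of_lt (by omega))]
  have nr := nrm_le hu n2 n1
  have e3 := List.map_append (f := pr u) (l₁ := L1) (l₂ := L2)
  rw [e2] at e3
  rw [e3]
  refine mem_cols_of (by rw [List.map_map, ← m1]; rfl) (fun a ha => ?_)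
    (d2 θ hθ ▸ hm θ (List.mem_append_right _ hθ)) (mul_ne_zero (by omega) ?_) ?_ (e3 ▸ nr) ?_
  · obtain ⟨χ, hχ, rfl⟩ := List.mem_map.mp ha
    exact hm χ (List.mem_append_left _ hχ)
  · rw [← d2 θ hθ]
    rcases (l3 θ).mp (List.mem_cons_of_mem _ (List.mem_append_right _ hθ)) with k | k
    · rw [B.wt_X he k]
      exact mul_ne_zero (by omega) (by rcases B.sgn θ k with k | k <;> omega)
    · rw [B.wt_Y he k]
      rcases B.dsgn with k | k <;> omega
  · have k := B.rel_blk he r
    simp only [hu] at k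
    have k' : ∑ χ ∈ B.X ∪ B.Y, wt p e (dg χ) * u χ = 0 := by exact_mod_cast k
    rw [l4, List.map_cons, List.sum_cons, dg_triv, w1, u_triv hu, mul_one] at k'
    rw [← e3, lin, List.map_map]
    exact k'
  · rw [← e3]
    refine sqOK_of (m := nInv P s) t0 Nat.card_pos
      (fun k => nInv_eq_zero B.card (by omega) (B.he ▸ k) s) ?_
    rw [sq, kb, bil_map, quad, List.map_map]; rfl

theorem nInv_le (P : Subgroup G) (s : G) :
    nInv P s ≤ Nat.card (Subgroup.centralizer (P : Set G)) := by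
  by_cases h : Nonempty {a // Inv P s a}
  · obtain ⟨a, ha⟩ := h
    exact Nat.card_le_card_of_injective (fun b : {a // Inv P s a} =>
      (⟨a * b, ha.mul_mem b.2⟩ : Subgroup.centralizer (P : Set G))) fun b b' k =>
        Subtype.ext (mul_left_cancel (congrArg Subtype.val k))
  · rw [nInv, Nat.card_eq_zero.mpr (Or.inl (not_nonempty_iff.mp h))]; exact Nat.zero_le _

theorem Inv_sq {s a : G} (hs : orderOf s = 2) (h : Inv P s a) : a * a = 1 :=
  H33.mul_self_of_isConj (H9.mul_self_of_orderOf_two hs) h.1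

theorem nInv_dvd (ho : Odd (Nat.card (Subgroup.centralizer (P : Set G)))) {s : G}
    (hs : orderOf s = 2) (h0 : nInv P s ≠ 0) :
    nInv P s ∣ Nat.card (Subgroup.centralizer (P : Set G)) := by
  obtain ⟨a, ha⟩ := (Nat.card_ne_zero.mp h0).1
  set C := Subgroup.centralizer (P : Set G)
  letI : MulAction C G := MulAction.compHom G (MulAut.conj.comp C.subtype)
  have k : MulAction.orbit C a = {b | Inv P s b} := by
    ext b
    constructor
    · rintro ⟨g, rfl⟩
      refine ⟨ha.1.trans (isConj_iff.mpr ⟨g, rfl⟩), fun y hy => ?_⟩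
      change (g : G) * a * (g : G)⁻¹ * y * ((g : G) * a * (g : G)⁻¹)⁻¹ = y⁻¹
      have h1 := g.2 y hy
      have h2 := g.2 y⁻¹ (inv_mem hy)
      calc _ = (g : G) * (a * ((g : G)⁻¹ * (y * g)) * a⁻¹) * (g : G)⁻¹ := by group
        _ = (g : G) * y⁻¹ * (g : G)⁻¹ := by rw [h1, inv_mul_cancel_left, ha.2 y hy]
        _ = y⁻¹ := by rw [← h2, mul_inv_cancel_right]
    · intro hb
      obtain ⟨m, hm⟩ := H9.exists_pow_conj_of_odd (Inv_sq hs ha) (Inv_sq hs hb)
        (ho.of_dvd_nat (Subgroup.orderOf_dvd_natCard _ (ha.mul_mem hb)))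
      exact ⟨⟨_, pow_mem (ha.mul_mem hb) m⟩, hm⟩
  have := MulAction.index_stabilizer C a
  rw [k] at this
  rw [show nInv P s = (MulAction.stabilizer C a).index from this.symm]
  exact Subgroup.index_dvd_card _

/-- more than half of the possible inverting elements: every inverting involution is conjugate -/
theorem isConj_of_nInv {W : Subgroup G} (hW : W ≤ Subgroup.centralizer (P : Set G))
    (ho : Odd (Nat.card W)) {s t : G} (hs : orderOf s = 2) (ht : orderOf t = 2)
    (h : Nat.card (Subgroup.centralizer (P : Set G)) < nInv P s + Nat.card W)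
    (h0 : nInv P t ≠ 0) : IsConj s t := by
  obtain ⟨b, hb⟩ := (Nat.card_ne_zero.mp h0).1
  by_contra hn
  have k : ∀ a, Inv P s a → a * b ∉ W := fun a ha k => hn
    (ha.1.trans ((H9.isConj_of_odd (Inv_sq hs ha) (Inv_sq ht hb)
      (ho.of_dvd_nat (Subgroup.orderOf_dvd_natCard _ k))).trans hb.1.symm))
  have := Nat.card_le_card_of_injective (fun x : {a // Inv P s a} ⊕ W =>
      (Sum.elim (fun a : {a // Inv P s a} => ⟨a.1 * b, a.2.mul_mem hb⟩) (fun w : W => ⟨w.1, hW w.2⟩) x :
        Subgroup.centralizer (P : Set G))) ?_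
  · rw [Nat.card_sum] at this
    exact absurd this (not_le.mpr h)
  · rintro (x | x) (y | y) e
    · exact congrArg _ (Subtype.ext (mul_right_cancel (congrArg Subtype.val e)))
    · exact absurd ((show x.1 * b = y from congrArg Subtype.val e) ▸ y.2) (k _ x.2)
    · exact absurd ((show (x : G) = y.1 * b from congrArg Subtype.val e) ▸ x.2) (k _ y.2)
    · have := congrArg Subtype.val e
      exact congrArg _ (Subtype.ext this)

/-- an involution normalising a self-centralising subgroup of prime order inverts it -/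
theorem exists_inverter (hP : Nat.card P = p) (h2 : p ≠ 2)
    (hC : Subgroup.centralizer (P : Set G) = P)
    (hN : 2 ∣ Nat.card (Subgroup.normalizer (P : Set G))) :
    ∃ s : G, orderOf s = 2 ∧ ∀ y ∈ P, s * y * s⁻¹ = y⁻¹ := by
  obtain ⟨⟨s, hs⟩, o⟩ := exists_prime_orderOf_dvd_card' 2 hN
  rw [Subgroup.orderOf_mk] at o
  refine ⟨s, o, fun y hy => ?_⟩
  have s2 := H9.mul_self_of_orderOf_two o
  have h1 : s * y * s⁻¹ ∈ P := (Subgroup.mem_normalizer_iff.mp hs y).mp hy
  have c : y * (s * y * s⁻¹) = s * y * s⁻¹ * y := H84.le_Cen_of_card hP h1 y hy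
  by_contra hne
  have k1 : y * (s * y * s⁻¹) ≠ 1 := fun k => hne (eq_inv_of_mul_eq_one_right k)
  have k2 : s ∈ Subgroup.centralizer (P : Set G) := by
    rw [← H4.centralizer_eq_of_card hp.out hP (mul_mem hy h1) k1,
      Subgroup.mem_centralizer_singleton_iff]
    calc s * (y * (s * y * s⁻¹)) = s * y * s⁻¹ * (s * s) * y * s⁻¹ := by group
      _ = s * y * s⁻¹ * y * (s * s)⁻¹ * s := by nth_rw 1 [s2]; group
      _ = y * (s * y * s⁻¹) * s := by rw [s2, c]; group
  rw [hC] at k2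
  have := Subgroup.orderOf_dvd_natCard _ k2
  rw [o, hP] at this
  exact h2 ((Nat.prime_dvd_prime_iff_eq Nat.prime_two hp.out).mp this).symm

end H8.J3O
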