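import Mathlib
import Cfsg.Agent.Base
import Cfsg.Agent.Lib.Deg.FS
import Cfsg.Agent.Lib.J3O.GenA

/-! Fixed spaces, Frobenius–Schur indicators in a principal block of defect one and a
Brauer–Tuan congruence for a non-principal block. -/

set_option autoImplicit false
set_option linter.unusedSectionVars false
set_option linter.style.haveILetI false

open Cfsg H4.Sv H17.Ord
open scoped Pointwise ComplexConjugate

namespace H8.J3O

variable {G : Type*} [Group G] [Finite G] {p : ℕ} [hp : Fact p.Prime] {P : Subgroup G} {e : ℕ}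

theorem trace_idem {n : ℕ} {T : Module.End ℂ (Fin n → ℂ)} (h : T * T = T) :
    ∃ a : ℕ, LinearMap.trace ℂ _ T = a :=
  ⟨_, (LinearMap.IsIdempotentElem.isProj_range T h).trace⟩

/-- the trace of an involution on the fixed space of a subgroup it normalises -/
theorem fixed_bound {χ : G → ℂ} (hχ : IsCharacter G χ) (P : Subgroup G) [Fintype P] {s : G}
    (s2 : s * s = 1) (hs : ∀ y ∈ P, s * y * s⁻¹ ∈ P) : ∃ a b : ℕ,
    ∑ x : P, χ x = Nat.card P * (a + b) ∧ ∑ x : P, χ (s * x) = Nat.card P * (a - b) := by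
  obtain ⟨n, ρ, rfl⟩ := hχ
  set U : Module.End ℂ (Fin n → ℂ) := ∑ x : P, ρ x with hU
  have hc : (Nat.card P : ℂ) ≠ 0 := H6.card_ne_zero
  have h1 : ∀ a : P, ρ a * U = U := fun a => by
    rw [hU, Finset.mul_sum]
    exact Fintype.sum_equiv (Equiv.mulLeft a) _ _ fun x => by simp
  have h2 : U * U = (Nat.card P : ℂ) • U := by
    nth_rw 1 [hU]
    rw [Finset.sum_mul]
    simp only [h1, Finset.sum_const, Finset.card_univ, ← Nat.card_eq_fintype_card]
    rw [Nat.cast_smul_eq_nsmul]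
  have h3 : ρ s * U = U * ρ s := by
    rw [hU, Finset.mul_sum, Finset.sum_mul]
    refine Fintype.sum_bijective (fun x : P => (⟨s * x * s⁻¹, hs x x.2⟩ : P))
      (Finite.injective_iff_bijective.mp fun x y h => Subtype.ext (by simpa using h)) _ _ fun x => ?_
    rw [← map_mul, ← map_mul, inv_mul_cancel_right]
  have h4 : ρ s * ρ s = 1 := by rw [← map_mul, s2, map_one]
  have h5 : ∀ ε : ℂ, ε * ε = 1 → ∃ a : ℕ, LinearMap.trace ℂ _ U + ε * LinearMap.trace ℂ _ (ρ s * U) =
      2 * Nat.card P * a := fun ε hε => by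
    obtain ⟨a, ha⟩ := trace_idem (T := (2 * Nat.card P : ℂ)⁻¹ • (U + ε • (ρ s * U))) (by
      have k1 : U * (ρ s * U) = (Nat.card P : ℂ) • (ρ s * U) := by
        rw [← mul_assoc, ← h3, mul_assoc, h2, mul_smul_comm]
      have k2 : ρ s * U * U = (Nat.card P : ℂ) • (ρ s * U) := by rw [mul_assoc, h2, mul_smul_comm]
      have k3 : ρ s * U * (ρ s * U) = (Nat.card P : ℂ) • U := by
        rw [mul_assoc, k1, mul_smul_comm, ← mul_assoc, h4, one_mul]
      rw [smul_mul_smul_comm, add_mul, mul_add, mul_add, mul_smul_comm, smul_mul_assoc,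
        smul_mul_smul_comm, h2, k1, k2, k3, hε]
      match_scalars <;> field_simp <;> ring)
    refine ⟨a, ?_⟩
    rw [map_smul, map_add, map_smul, smul_eq_mul, smul_eq_mul,
      inv_mul_eq_iff_eq_mul₀ (mul_ne_zero two_ne_zero hc)] at ha
    exact ha
  obtain ⟨a, ha⟩ := h5 1 (by ring)
  obtain ⟨b, hb⟩ := h5 (-1) (by ring)
  have e1 : ∑ x : P, ρ.character x = LinearMap.trace ℂ _ U := by rw [hU, map_sum]; rfl
  have e2 : ∑ x : P, ρ.character (s * x) = LinearMap.trace ℂ _ (ρ s * U) := by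
    rw [hU, Finset.mul_sum, map_sum]
    exact Finset.sum_congr rfl fun x _ => by rw [Representation.character, map_mul]
  refine ⟨a, b, ?_, ?_⟩
  · rw [e1]; linear_combination (ha + hb) / 2
  · rw [e2]; linear_combination (ha - hb) / 2

theorem sum_P' (hP : Nat.card P = p) [Fintype P] {χ : G → ℂ} {ε : ℂ}
    (h : ∀ g, p ∣ orderOf g → χ g = ε) {y : G}
    (hy : y ∈ Subgroup.centralizer (P : Set G)) (hr : ¬ p ∣ orderOf y) :
    ∑ x : P, χ (x * y) = χ y + (p - 1) * ε := by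
  classical
  rw [← Finset.add_sum_erase _ _ (Finset.mem_univ 1), OneMemClass.coe_one, one_mul,
    Finset.sum_congr rfl (g := fun _ => ε), Finset.sum_const,
    Finset.card_erase_of_mem (Finset.mem_univ _), Finset.card_univ, ← Nat.card_eq_fintype_card,
    hP, nsmul_eq_mul, Nat.cast_sub hp.out.one_le, Nat.cast_one]
  intro x hx
  exact h _ (H35.dvd_orderOf_mul (H35.isPElt_of_mem (H84.isPGroup_of_card hP) x.2)
    (fun h => (Finset.mem_erase.mp hx).1 (Subtype.ext h)) hr (H84.commute_of_mem_Cen x.2 hy))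

/-- bound for the value at an inverting involution -/
theorem inv_bound (hP : Nat.card P = p) (h2 : p ≠ 2) {χ : IrrCharacter G} {v u : ℤ}
    (h : ∀ g, p ∣ orderOf g → (χ : G → ℂ) g = v) {s : G} (hs : orderOf s = 2)
    (hi : ∀ y ∈ P, s * y * s⁻¹ = y⁻¹) (hu : (χ : G → ℂ) s = u) :
    (p : ℤ) * |u| ≤ dg χ + (p - 1) * v := by
  haveI := Fintype.ofFinite P
  obtain ⟨a, b, h1, h3⟩ := fixed_bound (irr_chr χ) P (H9.mul_self_of_orderOf_two hs)
    fun y hy => hi y hy ▸ inv_mem hy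
  have k1 := sum_P' hP h (Subgroup.one_mem _) (by simpa using hp.out.one_lt.ne')
  simp only [mul_one] at k1
  have k2 : ∀ x : P, (χ : G → ℂ) (s * x) = u := fun x => by
    obtain ⟨c, hc⟩ := isConj_iff.mp (Inv.mul_right hP h2 ⟨IsConj.refl s, hi⟩ x.2).1
    rw [← hc, irr_cls χ, hu]
  simp only [k2, Finset.sum_const, Finset.card_univ, ← Nat.card_eq_fintype_card,
    nsmul_eq_mul] at h3
  have k3 : u = a - b := by exact_mod_cast mul_left_cancel₀ H6.card_ne_zero h3
  rw [k1, dg_cast, hP] at h1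
  have k4 : (dg χ : ℤ) + (p - 1) * v = p * (a + b) := by exact_mod_cast h1
  rw [k4, k3]
  exact mul_le_mul_of_nonneg_left (abs_le.mpr ⟨by omega, by omega⟩) (by omega)

theorem sum_sup {T : Subgroup G} (hT : T ≤ Subgroup.normalizer (P : Set G)) (hd : Disjoint P T)
    [Fintype P] [Fintype T] [Fintype ↥(P ⊔ T)] (f : G → ℂ) :
    ∑ h : ↥(P ⊔ T), f h = ∑ v : T, ∑ x : P, f (x * v) := by
  rw [← Fintype.sum_prod_type']
  symm
  refine Fintype.sum_bijective (fun q : T × P => (⟨q.2 * q.1,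
    Subgroup.mul_mem_sup q.2.2 q.1.2⟩ : ↥(P ⊔ T))) ⟨?_, ?_⟩ _ _ fun _ => rfl
  · rintro ⟨v, x⟩ ⟨v', x'⟩ h
    have h1 : (x : G) * v = x' * v' := congrArg Subtype.val h
    have h2 : (x' : G)⁻¹ * x = v' * (v : G)⁻¹ := by
      rw [inv_mul_eq_iff_eq_mul, ← mul_assoc, ← h1, mul_inv_cancel_right]
    have h3 := Subgroup.disjoint_def.mp hd (mul_mem (inv_mem x'.2) x.2)
      (h2 ▸ mul_mem v'.2 (inv_mem v.2))
    have h4 : x' = x := Subtype.ext (inv_mul_eq_one.mp h3)
    subst h4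
    rw [Subtype.ext (mul_left_cancel h1 : (v : G) = v')]
  · rintro ⟨h, hh⟩
    have : h ∈ (P : Set G) * T := Subgroup.coe_mul_of_right_le_normalizer_left P T hT ▸ hh
    obtain ⟨x, hx, v, hv, rfl⟩ := this
    exact ⟨(⟨v, hv⟩, ⟨x, hx⟩), rfl⟩

theorem sum_P_out (hP : Nat.card P = p) [Fintype P] {χ : G → ℂ} (hχ : IsClassFunction G χ) {v : G}
    (hv : v ∈ Subgroup.normalizer (P : Set G)) (h : v ∉ Subgroup.centralizer (P : Set G)) :
    ∑ x : P, χ (x * v) = p * χ v := by
  have k : ∀ y : P, y * (v * (y : G)⁻¹ * v⁻¹) ∈ P := fun y =>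
    mul_mem y.2 ((Subgroup.mem_normalizer_iff.mp hv _).mp (inv_mem y.2))
  rw [← Fintype.sum_bijective (fun y : P => (⟨_, k y⟩ : P)) (Finite.injective_iff_bijective.mp ?_)
    (fun _ => χ v) _ fun y => ?_, Finset.sum_const, Finset.card_univ, ← Nat.card_eq_fintype_card,
    hP, nsmul_eq_mul]
  · intro y z e
    have e1 : y * (v * (y : G)⁻¹ * v⁻¹) = z * (v * (z : G)⁻¹ * v⁻¹) := congrArg Subtype.val e
    by_contra hne
    refine h ?_
    rw [← H4.centralizer_eq_of_card hp.out hP (mul_mem (inv_mem z.2) y.2)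
      fun k => hne (Subtype.ext (inv_mul_eq_one.mp k).symm), Subgroup.mem_centralizer_singleton_iff]
    calc v * ((z : G)⁻¹ * y) = (z : G)⁻¹ * (z * (v * (z : G)⁻¹ * v⁻¹)) * v * y := by group
      _ = _ := by rw [← e1]; group
  · rw [← hχ v y]; congr 1; simp [mul_assoc]

theorem even_sum {H : Type*} [Group H] [Fintype H] [Fintype G] (f : H →* G) {χ : IrrCharacter G}
    (h : H87.nu (χ : G → ℂ) = -1) : ∃ k : ℕ, ∑ x, (χ : G → ℂ) (f x) = Nat.card H * (2 * k) := by
  obtain ⟨k, hk⟩ := H87.even_inner_comp_of_nu_mul f χ.2 (triv H).2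
    (show _ * H87.nu (fun _ : H => (1 : ℂ)) = -1 by rw [H87.nu_one, h, mul_one])
  refine ⟨k, ?_⟩
  rw [← hk, classInner, mul_inv_cancel_left₀ H6.card_ne_zero]
  exact Finset.sum_congr rfl fun x _ => by rw [triv_apply, map_one, mul_one]

/-- a character taking the value `±1` on the 5-singular elements is not of symplectic type -/
theorem nu_ne_neg [Fact (Nat.Prime 5)] [Fintype G] (hP : Nat.card P = 5)
    (he : (Subgroup.centralizer (P : Set G)).relIndex (Subgroup.normalizer (P : Set G)) = 4)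
    {χ : IrrCharacter G} {ε : ℤ} (h1 : ε = 1 ∨ ε = -1)
    (h : ∀ g, 5 ∣ orderOf g → (χ : G → ℂ) g = ε) : H87.nu (χ : G → ℂ) ≠ -1 := by
  classical
  intro hν
  set N := Subgroup.normalizer (P : Set G)
  set C := Subgroup.centralizer (P : Set G)
  haveI : (C.subgroupOf N).Normal := Subgroup.normal_subgroupOf_centralizer_normalizer _
  obtain ⟨S⟩ : Nonempty (Sylow 2 N) := inferInstance
  set T := (S : Subgroup N).map N.subtype
  have hT : T ≤ N := Subgroup.map_subtype_le _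
  have pT : IsPGroup 2 T := S.isPGroup'.map _
  have oT : ∀ v ∈ T, ¬ 5 ∣ orderOf v := fun v hv k => by
    obtain ⟨j, hj⟩ := IsPGroup.iff_orderOf.mp pT ⟨v, hv⟩
    rw [Subgroup.orderOf_mk] at hj
    have := Nat.prime_five.dvd_of_dvd_pow (hj ▸ k)
    omega
  have i4 : C.relIndex T = 4 := by
    have k1 : (S : Subgroup N) ⊔ C.subgroupOf N = ⊤ := by
      rw [← Subgroup.index_eq_one]
      have a1 : ((S : Subgroup N) ⊔ C.subgroupOf N).index ∣ 2 ^ 2 :=
        (Subgroup.index_dvd_of_le le_sup_right).trans he.dvd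
      obtain ⟨j, -, hj⟩ := (Nat.dvd_prime_pow Nat.prime_two).mp a1
      have a2 := Subgroup.index_dvd_of_le 
        (le_sup_left : (S : Subgroup N) ≤ (S : Subgroup N) ⊔ C.subgroupOf N)
      rcases j with _ | j
      · exact hj
      · exact absurd ((dvd_pow_self 2 j.succ_ne_zero).trans (hj ▸ a2)) S.not_dvd_index
    have := Subgroup.relIndex_sup_right (S : Subgroup N) (C.subgroupOf N)
    rw [k1, Subgroup.relIndex_top_right] at this
    rw [← Subgroup.relIndex_subgroupOf hT, show T.subgroupOf N = S from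
      Subgroup.comap_map_eq_self_of_injective N.subtype_injective _, ← this]
    exact he
  have hd : Disjoint P T := Subgroup.disjoint_def.mpr fun {x} hx hx' => by
    by_contra k
    have := Subgroup.orderOf_dvd_natCard _ hx
    rw [hP] at this
    exact oT x hx' (((Nat.dvd_prime Nat.prime_five).mp this).resolve_left
      (fun e => k (orderOf_eq_one_iff.mp e))).symm.dvd
  obtain ⟨k1, e1⟩ := even_sum (P ⊔ T).subtype hν
  obtain ⟨k2, e2⟩ := even_sum T.subtype hν
  obtain ⟨k3, e3⟩ := even_sum (T.subtype.comp (C.subgroupOf T).subtype) hν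
  have c1 : (Nat.card ↥(P ⊔ T) : ℂ) = 5 * Nat.card T := by
    have := sum_sup hT hd fun _ => 1
    simp only [Finset.sum_const, Finset.card_univ, ← Nat.card_eq_fintype_card, nsmul_eq_mul,
      mul_one, hP] at this
    rw [this]; push_cast; ring
  have c2 : (Nat.card T : ℂ) = 4 * Nat.card (C.subgroupOf T) := by
    rw [← (C.subgroupOf T).index_mul_card, show (C.subgroupOf T).index = 4 from i4]; push_cast; rfl
  have s1 : ∑ x : ↥(P ⊔ T), (χ : G → ℂ) x = ∑ v : T, (5 * (χ : G → ℂ) v +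
      if v ∈ C.subgroupOf T then 4 * (ε - (χ : G → ℂ) v) else 0) := by
    rw [sum_sup hT hd]
    refine Finset.sum_congr rfl fun v _ => ?_
    split_ifs with k
    · rw [sum_P' hP h (y := v) k (oT v v.2)]; push_cast; ring
    · rw [sum_P_out hP (irr_cls χ) (hT v.2) k]; simp
  rw [Finset.sum_add_distrib, ← Finset.mul_sum, ← Finset.sum_filter,
    Finset.sum_subtype (p := (· ∈ C.subgroupOf T)) (Finset.univ.filter (· ∈ C.subgroupOf T))
      (fun _ => by simp), ← Finset.mul_sum,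
    Finset.sum_sub_distrib, Finset.sum_const, Finset.card_univ, ← Nat.card_eq_fintype_card,
    nsmul_eq_mul] at s1
  simp only [Subgroup.coe_subtype, MonoidHom.coe_comp, Function.comp_apply] at e1 e2 e3
  rw [e1, e2, e3, c1, c2] at s1
  have z0 : (Nat.card (C.subgroupOf T) : ℂ) ≠ 0 := H6.card_ne_zero
  have k : (ε : ℂ) = 2 * (5 * k1 - 5 * k2 + k3) := by
    apply mul_left_cancel₀ (mul_ne_zero (by norm_num : (4 : ℂ) ≠ 0) z0)
    linear_combination -s1
  have k' : ε = 2 * (5 * k1 - 5 * k2 + k3) := by exact_mod_cast k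
  omega

/-- the signs of a principal 5-block with inertial index four all of whose members are real -/
theorem fs_sum [Fact (Nat.Prime 5)] [Fintype G] [IsSimpleGroup G] (hna : ∃ a b : G, a * b ≠ b * a)
    (B : PB G 5 P 4) [DecidableEq (IrrCharacter G)] {o : List ℕ} (h1 : 1 ∉ o)
    (h : ∀ d, d ≠ 1 → cnt (B.X ∪ B.Y) d = o.count d)
    (hr : ∀ χ, χ ∈ B.X ∨ χ ∈ B.Y → H87.IsReal (χ : G → ℂ)) : (o.map (sg 5)).sum = 0 := by
  obtain ⟨Z, s, z1, z2, z3, z4, z5, z6⟩ := B.full rfl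
  obtain rfl : Z = B.X ∪ B.Y := by ext χ; rw [z3, Finset.mem_union]
  have hs : ∀ χ ∈ B.X ∪ B.Y, s χ = sg 5 (dg χ) := fun χ hχ => by
    rcases z4 χ hχ with k | k <;> simp [sg, k.1, k.2]
  have hν : ∀ χ ∈ B.X ∪ B.Y, H87.nu (χ : G → ℂ) = 1 := fun χ hχ =>
    (H87.nu_of_isReal χ.2 (hr χ (Finset.mem_union.mp hχ))).resolve_right
      (nu_ne_neg B.card B.he ((z4 χ hχ).imp And.left And.left) (z5 χ hχ))
  set Φ : G → ℂ := ∑ χ ∈ B.X ∪ B.Y, (s χ : ℂ) • (χ : G → ℂ) with hΦ
  have p1 : ∀ g, Φ g = ∑ χ ∈ B.X ∪ B.Y, (s χ : ℂ) * (χ : G → ℂ) g := fun g => by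
    rw [hΦ, Finset.sum_apply]; rfl
  have p2 : ∀ g, Φ (g * g) = Φ g := fun g => by
    have k : 5 ∣ orderOf (g * g) ↔ 5 ∣ orderOf g := by
      rw [← sq]
      refine ⟨fun k => k.trans (orderOf_pow_dvd 2), fun k => ?_⟩
      have : orderOf g ∣ 2 * orderOf (g ^ 2) :=
        orderOf_dvd_of_pow_eq_one (by rw [pow_mul, pow_orderOf_eq_one])
      exact (Nat.Coprime.dvd_mul_left (by norm_num)).mp (k.trans this)
    rw [p1, p1]
    by_cases k' : 5 ∣ orderOf g
    · exact Finset.sum_congr rfl fun χ hχ => by rw [z5 χ hχ g k', z5 χ hχ _ (k.mpr k')]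
    · rw [z6 g k', z6 _ (mt k.mp k')]
  have p3 : ∑ g, Φ g = Nat.card G := by
    simp only [p1]
    rw [Finset.sum_comm, Finset.sum_eq_single_of_mem _ z2 fun χ _ hχ => by
      rw [← Finset.mul_sum, sum_eq_zero_of_ne fun k => hχ (eq_triv_of_dg hna k), mul_zero]]
    simp [hs _ z2, dg_triv, sg, triv_apply]
  have p4 := H87.card_mul_nu Φ
  simp only [p2] at p4
  rw [p3, hΦ, H87.nu_sum, mul_eq_left₀ H6.card_ne_zero, Finset.sum_congr rfl fun χ hχ => by
    rw [H87.nu_smul, hν χ hχ, mul_one, hs χ hχ]] at p4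
  have p5 : ∑ χ ∈ B.X ∪ B.Y, sg 5 (dg χ) = 1 := by exact_mod_cast p4
  obtain ⟨L, l1, -, -, l4⟩ := B.enum_blk hna h1 h
  rw [l4, show L.map (fun χ => sg 5 (dg χ)) = (L.map dg).map (sg 5) by rw [List.map_map]; rfl, l1,
    List.map_cons, List.sum_cons, show sg 5 1 = 1 from rfl] at p5
  omega

/-- exceptional characters of a self-centralising subgroup with even inertial index are real -/
theorem real_of_Y [Fintype G] (B : PB G p P e) (hC : Subgroup.centralizer (P : Set G) = P) {s : G}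
    (hi : ∀ y ∈ P, s * y * s⁻¹ = y⁻¹) {χ : IrrCharacter G}
    (h : dg χ % p ≠ 0 ∧ dg χ % p ≠ 1 ∧ dg χ % p ≠ p - 1) : H87.IsReal (χ : G → ℂ) := by
  refine (H87.isReal_iff_inv (irr_chr χ)).mpr fun g => ?_
  by_cases k : p ∣ orderOf g
  · obtain ⟨a, ha⟩ := H84.exists_conj_mem_Cen_of_sing B.card B.ind k
    rw [show H86.Cen P = P from hC] at ha
    rw [← irr_cls χ g a, ← irr_cls χ (a * g * a⁻¹) s, hi _ ha, conj_inv, irr_cls χ]
  · rw [H6.char_inv (irr_chr χ), ← H87.irrConj_apply]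
    exact B.reg_eq hC h (H87.deg_irrConj χ) k

theorem ss_of {Q : ℕ} {a : ℤ} {S l : List ℤ} (h : S.Sublist l) :
    ∀ (s : ℤ) (b : Bool), (b = true ∨ a ∈ S) → (Q : ℤ) ∣ s + S.sum → ss Q a l s b = true := by
  induction h with
  | slnil => intro s b h1 h2; simpa [ss, h1.resolve_right List.not_mem_nil] using h2
  | cons x _ ih => intro s b h1 h2; rw [ss, ih s b h1 h2, Bool.true_or]
  | cons_cons x _ ih =>
    intro s b h1 h2
    rw [ss, ih (s + x) _ ?_ (by rwa [List.sum_cons, ← add_assoc] at h2), Bool.or_true]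
    rcases h1 with h1 | h1
    · simp [h1]
    · exact (List.mem_cons.mp h1).imp_left fun k => by simp [k]

theorem bt_fin {q : ℕ} [Fact q.Prime] {M : Ideal AlgInt} (hM : IsPModular q M)
    {A : Set (IrrCharacter G)} (hA : IsPBlock M A) (S : Finset (IrrCharacter G))
    (w : IrrCharacter G → ℤ) (h : ∀ g, q ∣ orderOf g → ∑ χ ∈ S, (w χ : ℂ) * (χ : G → ℂ) g = 0)
    [DecidablePred (· ∈ A)] :
    ((q ^ (Nat.card G).factorization q : ℕ) : ℤ) ∣ ∑ χ ∈ S with χ ∈ A, w χ * dg χ := by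
  haveI := Fintype.ofFinite G
  haveI := H33.isMaximal_of hM
  obtain ⟨Q⟩ : Nonempty (Sylow q G) := inferInstance
  rw [← Sylow.card_eq_multiplicity Q]
  refine H4.int_dvd_of_vanish (H84.isGen_blockPart A (H6.isGen_sum S fun χ _ =>
    H6.isGen_intCast_smul (w χ) (H84.irr_gen χ))) Q ?_ ?_
  · intro x hx hx1
    refine H34.blockPart_eq_zero_of_section hM A
      (Cfsg.Agent.S0913.result q M hM A hA) _ x fun g hg => ?_
    rw [H35.pPart_eq_self (H35.isPElt_of_mem Q.isPGroup' hx)] at hg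
    rw [Finset.sum_apply]
    refine h g ?_
    rw [← H35.pPart_ne_one_iff q]
    intro h
    rw [h, isConj_one_left] at hg
    exact hx1 hg
  · rw [H84.blockPart_sum, Finset.sum_apply, Finset.sum_filter, Int.cast_sum]
    refine Finset.sum_congr rfl fun χ _ => ?_
    rw [H84.blockPart_smul]
    split_ifs with k
    · rw [H84.blockPart_irr_of_mem k, Pi.smul_apply, dg_cast]; simp
    · rw [H84.blockPart_irr_of_not_mem k]; simp

theorem blk_dvd {q : ℕ} [hq : Fact q.Prime] {M : Ideal AlgInt} (hM : IsPModular q M)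
    {χ ψ : IrrCharacter G} (h : ψ ∈ blockOf M (χ : G → ℂ)) {u : G} {ε : ℤ}
    (hε : (χ : G → ℂ) u = ε) (h1 : ε = 1 ∨ ε = -1) {r : ℕ}
    (hr : (Subgroup.centralizer ({u} : Set G)).index = dg χ * r) (hq' : ¬ q ∣ r) :
    (ψ : G → ℂ) u ≠ 0 ∧ ∀ k, q ^ k ∣ (Subgroup.centralizer ({u} : Set G)).index → q ^ k ∣ dg ψ := by
  haveI := H33.isMaximal_of hM
  have k0 : ¬ MemLocalIdeal M (centralChar (ψ : G → ℂ) u) := fun k => by
    have k1 := H33.memLocalIdeal_add (h u) k
    rw [sub_add_cancel, centralChar, hr, hε, dg_cast, show ((dg χ * r : ℕ) : ℂ) * ε / dg χ =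
      ((r * ε : ℤ) : ℂ) by
      have : (dg χ : ℂ) ≠ 0 := Nat.cast_ne_zero.mpr (dg_pos χ).ne'
      push_cast; field_simp, H33.memLocalIdeal_intCast_iff hM] at k1
    refine hq' (Int.natCast_dvd_natCast.mp ?_)
    rcases h1 with rfl | rfl <;> simpa using k1
  refine ⟨fun k => k0 (by rw [centralChar, k]; simpa using H33.memLocalIdeal_zero), fun k hk => ?_⟩
  have i0 : (Subgroup.centralizer ({u} : Set G)).index ≠ 0 := Subgroup.index_ne_zero_of_finite
  rw [hq.out.pow_dvd_iff_le_factorization i0] at hk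
  rw [hq.out.pow_dvd_iff_le_factorization (dg_pos ψ).ne']
  by_contra k1
  refine k0 ?_
  rw [centralChar, mul_div_right_comm, dg_cast]
  exact H33.memLocalIdeal_mul_right ((H33.memLocalIdeal_natCast_div_iff hM i0 (dg_pos ψ).ne').mpr
    (by omega)) (H33.mem_O_of_isIntegral M (H6.char_isIntegral (irr_chr ψ) u))

theorem not_noBT [IsSimpleGroup G] [Fact (Nat.Prime 17)] (hna : ∃ a b : G, a * b ≠ b * a)
    (B : PB G 17 P 8) (hC : Subgroup.centralizer (P : Set G) = P) [DecidableEq (IrrCharacter G)]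
    {o : List ℕ} (h : ∀ d, d ≠ 1 → cnt (B.X ∪ B.Y) d = o.count d) {q : ℕ} [hq : Fact q.Prime]
    (hq17 : q ≠ 17) {M : Ideal AlgInt} (hM : IsPModular q M) {χ : IrrCharacter G}
    (hχ : ¬ 17 ∣ dg χ) (hx : isX 17 (dg χ) = true) {al : ℕ → Bool}
    (hal : ∀ ψ ∈ blockOf M (χ : G → ℂ), al (dg ψ) = true) (h1 : al 1 = false) {Q : ℕ}
    (hQ : q ^ (Nat.card G).factorization q = Q) : noBT al (dg χ) Q o = false := by
  classical
  haveI := H33.isMaximal_of hM
  by_contra hn
  rw [Bool.not_eq_false, noBT, Bool.and_eq_true, Bool.not_eq_true'] at hn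
  obtain ⟨hg, hn⟩ := hn
  obtain ⟨L, l1, l2, l3, -⟩ := colsL B hna (by norm_num) rfl (c := 1) (by rw [hC, B.card]) h hg
  have g2 : isX 17 (excD 17 8 o) = false := by
    simp only [H17.Ord.good, Bool.and_eq_true, Bool.or_eq_true, Bool.not_eq_true'] at hg
    exact hg.2.1.resolve_left (by decide)
  obtain ⟨L1, L2, rfl, m1, m2⟩ := List.map_eq_append_iff.mp l3
  have xX : ∀ ψ ∈ B.X, isX 17 (dg ψ) = true := fun ψ k => by
    rcases B.modX k with k | k <;> simp [isX, k.2]
  have xY : ∀ ψ ∈ B.Y, isX 17 (dg ψ) = false := fun ψ k => by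
    rcases B.modY k with k | k <;> simp [isX, k.2]
  have d2 : ∀ ψ ∈ L2, dg ψ = excD 17 8 o := fun ψ hψ =>
    List.eq_of_mem_replicate (m2 ▸ List.mem_map_of_mem hψ)
  have d1 : ∀ ψ ∈ L1, isX 17 (dg ψ) = true := fun ψ hψ => by
    have : dg ψ ∈ nonE 17 8 o := m1 ▸ List.mem_map_of_mem hψ
    exact (List.mem_filter.mp this).2
  obtain ⟨θ, hθ⟩ := List.exists_mem_of_length_pos (l := L2) (by
    have := congrArg List.length m2
    simp at this; omega)
  have θY : θ ∈ B.Y := ((l2 θ).mp (List.mem_append_right _ hθ)).1.resolve_left fun k => by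
    have := xX θ k
    rw [d2 θ hθ, g2] at this
    exact absurd this (by simp)
  have hX : ∀ ψ, ψ ∈ B.X ↔ ψ ∈ triv G :: L1 := fun ψ => by
    rw [List.mem_cons]
    refine ⟨fun k => (eq_or_ne ψ _).imp_right fun k' => ?_, ?_⟩
    · refine (List.mem_append.mp ((l2 ψ).mpr ⟨Or.inl k, k'⟩)).resolve_right fun k2 => ?_
      have := xX ψ k
      rw [d2 ψ k2, g2] at this
      exact absurd this (by simp)
    · rintro (rfl | k)
      · exact B.triv_mem_X (by norm_num) hna
      · refine ((l2 ψ).mp (List.mem_append_left _ k)).1.resolve_right fun k' => ?_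
        have := xY ψ k'
        rw [d1 ψ k] at this
        exact absurd this (by simp)
  have θX : θ ∉ B.X := Finset.disjoint_right.mp B.disj θY
  have nd : (θ :: triv G :: L1).Nodup := List.nodup_cons.mpr ⟨fun k => θX ((hX θ).mpr k),
    List.nodup_cons.mpr ⟨fun k => ((l2 _).mp (List.mem_append_left _ k)).2 rfl, l1.of_append_left⟩⟩
  have hS : insert θ B.X = (θ :: triv G :: L1).toFinset := by
    ext ψ; simp only [Finset.mem_insert, hX, List.mem_toFinset, List.mem_cons]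
  let w : ℕ → ℤ := fun d => if d % 17 = 1 then 1 else if d % 17 = 17 - 1 then -1 else wt 17 8 d
  have wX : ∀ ψ ∈ B.X, w (dg ψ) = B.ε ψ := fun ψ k => by
    rcases B.modX k with k | k <;> simp [w, k.1, k.2]
  have wθ : w (dg θ) = -B.δ := by
    rw [← B.wt_Y (by norm_num) θY]
    rcases B.modY θY with k | k <;> simp [w, k.2]
  have k := bt_fin hM ⟨χ, rfl⟩ (insert θ B.X) (fun ψ => w (dg ψ)) fun g hg => by
    rw [Finset.sum_insert θX, wθ, Finset.sum_congr rfl fun ψ k => by rw [wX ψ k],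
      ← B.rel θ θY g fun k => hq17 ((Nat.prime_dvd_prime_iff_eq hq.out Fact.out).mp
        (B.ord_eq hC g k ▸ hg))]
    push_cast; ring
  have n1 : triv G ∉ blockOf M (χ : G → ℂ) := fun k => by
    have := hal _ k
    rw [dg_triv, h1] at this
    exact absurd this (by simp)
  have k0 : χ ∈ blockOf M (χ : G → ℂ) := fun g => by
    rw [sub_self]; exact H33.memLocalIdeal_zero
  rw [hS, hQ, show (θ :: triv G :: L1).toFinset.filter (· ∈ blockOf M (χ : G → ℂ)) =
    ((θ :: triv G :: L1).filter fun ψ => ψ ∈ blockOf M (χ : G → ℂ)).toFinset by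
      rw [List.toFinset_filter]; simp, List.sum_toFinset _ (nd.filter _)] at k
  rw [ss_of (S := ((θ :: triv G :: L1).filter fun ψ => ψ ∈ blockOf M (χ : G → ℂ)).map
    fun ψ => sd 17 8 (dg ψ)) ?_ 0 false (Or.inr ?_) (by rw [zero_add]; exact k)] at hn
  · exact absurd hn (by simp)
  · rw [← m1, ← d2 θ hθ, ← List.map_cons, List.filter_map, List.map_map]
    refine List.Sublist.map _ ?_
    rw [show (θ :: triv G :: L1).filter (fun ψ => ψ ∈ blockOf M (χ : G → ℂ)) =
      (θ :: L1).filter fun ψ => ψ ∈ blockOf M (χ : G → ℂ) by simp [List.filter_cons, n1]]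
    exact List.monotone_filter_right _ fun ψ k => hal ψ (by simpa using k)
  · refine List.mem_map.mpr ⟨χ, List.mem_filter.mpr ⟨List.mem_cons_of_mem _ ((hX χ).mp ?_),
      by simpa using k0⟩, rfl⟩
    refine (B.mem_of_not_dvd hC hχ).resolve_right fun k => ?_
    rw [xY χ k] at hx
    exact absurd hx (by simp)

end H8.J3O
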