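import Mathlib
import Cfsg.Agent.Base
import Cfsg.Agent.Lib.J3O.Defs

/-! Numerical checks for simple groups of order 50232960: the prime 17. -/

set_option autoImplicit false

open H4.Sv H17.Ord

namespace H8.J3O

theorem c17 : optsAll 50232960 17 (fun e c => (e == 8 && c == 1) || c % 19 == 0 ||
    feasF 50232960 17 e c f19 fun o => e == 16 && c == 9 && o.count 1920 == 1) = true := by
  decide +kernel

theorem y17 : ∀ C ∈ divs 2643840, ∀ x ∈ [306, 612, 1224, 2448], C % x = 0 → C / x % 17 = 1 →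
    ∀ j ∈ List.range 66, (51 * (j : ℤ) - 1650) ^ 2 ≤ C →
      ((50232960 / C : ℕ) * (51 * (j : ℤ) - 1650)) % 1920 ≠ 0 := by
  decide +kernel

theorem bt17 : feasF 50232960 17 8 1 f19 (fun o =>
    noBT (fun d => d % 5 != 0 && d % 4 == 0) 324 128 o &&
    noBT (fun d => d % 5 != 0 && d % 9 == 0) 2736 243 o &&
    noBT (fun d => d % 5 != 0 && d % 16 == 0) 2736 128 o) = true := by decide +kernel

end H8.J3O
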