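import Mathlib
import Cfsg.Agent.Base
import Cfsg.Agent.Lib.J3O.Defs

/-! Numerical checks for simple groups of order 50232960: the prime 19. -/

set_option autoImplicit false

open H4.Sv H17.Ord

namespace H8.J3O

def L19 : List (ℕ × ℕ × List ℕ) := [
  (6, 144, [170, 170, 153, 153, 153, 120, 120, 120]),
  (18, 48, [360, 324, 324, 170, 170, 170, 170, 170, 170, 170, 170, 153, 153, 153, 153, 153, 153, 153]),
  (18, 48, [3060, 2754, 360, 324, 324, 170, 170, 170, 170, 170, 170, 170, 170, 153, 153, 153, 153, 153]),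
  (18, 48, [360, 360, 324, 324, 324, 324, 324, 170, 170, 170, 170, 170, 170, 170, 170, 153, 153, 153]),
  (18, 48, [3060, 3060, 2754, 2754, 360, 324, 324, 170, 170, 170, 170, 170, 170, 170, 170, 153, 153, 153]),
  (18, 48, [170, 360, 360, 360, 360, 360, 360, 3060, 153, 153, 153, 170, 170, 170, 170, 170, 170, 170]),
  (18, 48, [3060, 2754, 360, 360, 324, 324, 324, 324, 324, 170, 170, 170, 170, 170, 170, 170, 170, 153]),
  (18, 48, [360, 2754, 360, 360, 360, 360, 360, 170, 170, 170, 170, 170, 170, 170, 170, 3060, 3060, 153])]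

theorem c19 : optsAll 50232960 19 (fun e c => (e == 9 && c == 1) ||
    feasF 50232960 19 e c (fun _ => true) fun o =>
      L19.any fun t => t.1 == e && t.2.1 == c && t.2.2.isPerm o) = true := by decide +kernel

theorem k19 : ∀ t ∈ L19, good 19 t.1 t.2.2 = true ∧ t.2.1 % 16 = 0 ∧ ∀ C ∈ divs 50232960,
    sylOK 19 t.1 t.2.1 16 C = true →
      cl 50232960 19 t.1 t.2.1 C (fl [5, 17, 19] 19 C) t.2.2 = [] := by decide +kernel

end H8.J3O
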