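import Mathlib
import Cfsg.Agent.Base
import Cfsg.Agent.Lib.J3O.GenB
import Cfsg.Agent.Lib.J3O.N19
import Cfsg.Agent.Lib.J3O.N17

/-! In a simple group of order 50232960 the Sylow subgroups of orders 17 and 19 are
self-centralising. -/

set_option autoImplicit false
set_option linter.unusedSectionVars false
set_option linter.style.haveILetI false

open Cfsg H4.Sv H17.Ord

namespace H8.J3O

variable {G : Type*} [Group G] [Finite G]

theorem orbit_mul (N : Subgroup G) (y : G) :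
    {z | ∃ n ∈ N, n * y * n⁻¹ = z}.ncard * Nat.card ↥(N ⊓ Subgroup.centralizer {y}) =
      Nat.card N := by
  letI : MulAction N G := MulAction.compHom G (MulAut.conj.comp N.subtype)
  have k : MulAction.orbit N y = {z | ∃ n ∈ N, n * y * n⁻¹ = z} := by
    ext z
    exact ⟨fun ⟨n, h⟩ => ⟨n, n.2, h⟩, fun ⟨n, h, k⟩ => ⟨⟨n, h⟩, k⟩⟩
  have k2 : MulAction.stabilizer N y = (N ⊓ Subgroup.centralizer {y}).subgroupOf N := by
    ext n
    rw [Subgroup.mem_subgroupOf, Subgroup.mem_inf, Subgroup.mem_centralizer_singleton_iff,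
      ← mul_inv_eq_iff_eq_mul]
    exact ⟨fun h => ⟨n.2, h⟩, fun h => h.2⟩
  rw [← k, ← MulAction.index_stabilizer, k2, ← Nat.card_congr
    (Subgroup.subgroupOfEquivOfLe (inf_le_left : N ⊓ Subgroup.centralizer {y} ≤ N)).toEquiv,
    Subgroup.index_mul_card]

theorem card_norm {p : ℕ} [Fact p.Prime] {P : Subgroup G} {e c : ℕ} (B : PB G p P e)
    (hc : Nat.card (Subgroup.centralizer (P : Set G)) = p * c) :
    Nat.card (Subgroup.normalizer (P : Set G)) = p * c * e :=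
  Nat.eq_of_mul_eq_mul_left (Nat.pos_of_ne_zero Subgroup.index_ne_zero_of_finite)
    ((Subgroup.index_mul_card _).trans (B.index_mul hc).symm)

theorem card_dvd_inf {C N : Subgroup G} (h : C ≤ N) (s : C) :
    Nat.card (Subgroup.centralizer ({s} : Set C)) ∣ Nat.card ↥(N ⊓ Subgroup.centralizer {s.1}) := by
  rw [← Subgroup.card_map_of_injective C.subtype_injective]
  refine Subgroup.card_dvd_of_le ?_
  rintro _ ⟨y, hy, rfl⟩
  exact ⟨h y.2, Subgroup.mem_centralizer_singleton_iff.mpr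
    (congrArg Subtype.val (Subgroup.mem_centralizer_singleton_iff.mp hy))⟩

theorem conj_mem_cen {P : Subgroup G} {n y : G} (hn : n ∈ Subgroup.normalizer (P : Set G))
    (hy : y ∈ Subgroup.centralizer (P : Set G)) :
    n * y * n⁻¹ ∈ Subgroup.centralizer (P : Set G) := fun x hx => by
  have := hy _ ((Subgroup.mem_normalizer_iff.mp (inv_mem hn) x).mp hx)
  calc x * (n * y * n⁻¹) = n * (n⁻¹ * x * n⁻¹⁻¹ * y) * n⁻¹ := by group
    _ = _ := by rw [this]; group

theorem y17' {C X m r : ℕ} {v : ℤ} (i3 : C ∣ 2643840) (x1 : 17 * 9 ∣ X) (x2 : m * X = 17 * 9 * 16)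
    (x3 : m ≤ 8) (r1 : C = X * r) (r2 : r % 17 = 1) (v1 : ((1920 : ℕ) : ℤ) ≡ v [ZMOD (3 : ℕ)])
    (v2 : v ≡ -1 [ZMOD (17 : ℕ)]) (v3 : ((1920 : ℕ) : ℤ) ∣ (50232960 / C : ℕ) * v)
    (v4 : v ^ 2 + 1 ^ 2 ≤ C) : False := by
  have x0 : 0 < X := Nat.pos_of_ne_zero (by rintro rfl; omega)
  have i4 : (C : ℤ) ≤ 2643840 := by exact_mod_cast Nat.le_of_dvd (by norm_num) i3
  have v5 : |v| ≤ 1650 := abs_le_of_sq_le_sq' (by omega) (by norm_num) |> abs_le.mpr
  rw [abs_le] at v5
  obtain ⟨j, j1, rfl⟩ : ∃ j : ℕ, j < 66 ∧ v = 51 * j - 1650 := by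
    unfold Int.ModEq at v1 v2
    exact ⟨((v + 1650) / 51).toNat, by omega, by omega⟩
  refine y17 C (mem_divs (by norm_num) i3) X ?_ (by rw [r1, Nat.mul_mod_right])
    (by rw [r1, Nat.mul_div_cancel_left _ x0, r2]) j (List.mem_range.mpr j1) (by omega)
    (Int.emod_eq_zero_of_dvd v3)
  obtain ⟨w, rfl⟩ := x1
  have : m * w = 16 := by nlinarith
  have w1 : w ∣ 2 ^ 4 := Dvd.intro_left m this
  obtain ⟨i, hi, rfl⟩ := (Nat.dvd_prime_pow Nat.prime_two).mp w1
  interval_cases i <;> simp <;> omega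

instance fact19 : Fact (Nat.Prime 19) := ⟨by norm_num⟩
instance fact17 : Fact (Nat.Prime 17) := ⟨by norm_num⟩
instance fact5 : Fact (Nat.Prime 5) := ⟨by norm_num⟩

variable [IsSimpleGroup G]

theorem hna (hG : Nat.card G = 50232960) : ∃ a b : G, a * b ≠ b * a :=
  noncomm_of_not_prime (by rw [hG]; norm_num)

theorem step19 (hG : Nat.card G = 50232960) :
    ∃ P : Subgroup G, Subgroup.centralizer (P : Set G) = P ∧ Nonempty (PB G 19 P 9) := by
  classical
  have na := hna hG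
  obtain ⟨P, e, c, hc, ⟨B⟩⟩ := exists_PB na 19 (m := 2643840) hG (by norm_num)
  obtain ⟨he, k⟩ := B.opts na hG hc c19
  simp only [Bool.or_eq_true, Bool.and_eq_true, beq_iff_eq] at k
  rcases k with ⟨rfl, rfl⟩ | k
  · exact ⟨P, selfcent_of_card B.card hc, ⟨B⟩⟩
  exfalso
  obtain ⟨o, o1, -, o3⟩ := B.sieveF na (by norm_num) hG hc (fun _ _ _ => rfl) k
  simp only [List.any_eq_true, Bool.and_eq_true, beq_iff_eq, List.isPerm_iff] at o1
  obtain ⟨t, ht, ⟨rfl, rfl⟩, t3⟩ := o1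
  obtain ⟨g1, g2, g3⟩ := k19 t ht
  obtain ⟨L, -, -, -, hL⟩ := colsL B na he hG hc
    (fun d hd => (o3 d hd).trans (t3.count_eq d).symm) g1
  obtain ⟨s, hs, h16⟩ := exists_two_central (G := Subgroup.centralizer (P : Set G)) (k := 4)
    (by norm_num) (by rw [hc]; omega)
  rw [← Subgroup.orderOf_coe] at hs
  have hP : P ≤ Subgroup.centralizer {s.1} := fun y hy =>
    Subgroup.mem_centralizer_singleton_iff.mpr (s.2 y hy)
  obtain ⟨u, hu, -⟩ := exists_invol_col na hs
  have := hL hs hu (B.fl_of (Q := [5, 17, 19]) (by rw [hG]; decide) hs rfl hu)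
  rw [g3 _ (mem_divs (by norm_num) (hG ▸ Subgroup.card_subgroup_dvd_card _)) ?_] at this
  · exact absurd this List.not_mem_nil
  obtain ⟨r, r1, r2⟩ := card_over B.card B.ind hP
  have N1 := card_norm B hc
  have c0 : t.2.1 ≠ 0 := by rintro h; rw [h] at hc; exact Nat.card_pos.ne' hc
  simp only [sylOK, List.any_eq_true, Bool.and_eq_true, beq_iff_eq]
  refine ⟨_, mem_divs (by positivity) (N1 ▸ Subgroup.card_dvd_of_le inf_le_left),
    ⟨Nat.mod_eq_zero_of_dvd (Nat.Coprime.mul_dvd_of_dvd_of_dvd (by norm_num) ?_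
      (h16.trans (card_dvd_inf (Subgroup.centralizer_le_normalizer _) s))),
      Nat.mod_eq_zero_of_dvd ⟨r, r1⟩⟩, ?_⟩
  · rw [← B.card]
    exact Subgroup.card_dvd_of_le (le_inf Subgroup.le_normalizer hP)
  · rw [r1, Nat.mul_div_cancel_left _ Nat.card_pos, r2]

theorem f19_of {P : Subgroup G} (B : PB G 19 P 9) (hC : Subgroup.centralizer (P : Set G) = P)
    (χ : IrrCharacter G) : f19 (dg χ) = true := List.contains_iff_mem.mpr (B.res hC χ)

theorem f17_of {P : Subgroup G} (B : PB G 17 P 8) (hC : Subgroup.centralizer (P : Set G) = P)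
    (χ : IrrCharacter G) : f17 (dg χ) = true := List.contains_iff_mem.mpr (B.res hC χ)

theorem step17 (hG : Nat.card G = 50232960) {R : Subgroup G} (B19 : PB G 19 R 9)
    (C19 : Subgroup.centralizer (R : Set G) = R) :
    ∃ P : Subgroup G, Subgroup.centralizer (P : Set G) = P ∧ Nonempty (PB G 17 P 8) := by
  classical
  have na := hna hG
  obtain ⟨P, e, c, hc, ⟨B⟩⟩ := exists_PB na 17 (m := 2954880) hG (by norm_num)
  obtain ⟨he, k⟩ := B.opts na hG hc c17
  simp only [Bool.or_eq_true, Bool.and_eq_true, beq_iff_eq] at k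
  rcases k with (⟨rfl, rfl⟩ | k) | k
  · exact ⟨P, selfcent_of_card B.card hc, ⟨B⟩⟩
  · exact absurd (hc ▸ Dvd.dvd.mul_left (Nat.dvd_of_mod_eq_zero k) 17)
      (B19.not_dvd_cen C19 (by norm_num) B.card)
  exfalso
  obtain ⟨o, o1, -, o3⟩ := B.sieveF na (by norm_num) hG hc (fun χ _ _ => f19_of B19 C19 χ) k
  simp only [Bool.and_eq_true, beq_iff_eq] at o1
  obtain ⟨⟨rfl, rfl⟩, o2⟩ := o1
  obtain ⟨χ, c1, c2, c3⟩ := cnt_eq_one ((o3 1920 (by norm_num)).trans o2)
  obtain ⟨Z, s, -, -, z3, z4, z5, -⟩ := B.full rfl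
  have χZ := (z3 χ).mpr (Finset.mem_union.mp c1)
  have sχ : s χ = -1 := ((z4 χ χZ).resolve_left (by rw [c2]; simp)).1
  set C := Subgroup.centralizer (P : Set G)
  obtain ⟨Q⟩ : Nonempty (Sylow 3 C) := inferInstance
  have q1 : Nat.card Q = 3 ^ 2 := H36.card_sylow_eq_pow Q (by rw [hc]; norm_num) (by rw [hc]; norm_num)
  haveI : Subsingleton (Sylow 3 C) := by
    have a1 := Q.card_dvd_index
    have a2 := (Q : Subgroup C).index_mul_card
    rw [q1, hc] at a2
    rw [show (Q : Subgroup C).index = 17 by omega, Nat.dvd_prime (by norm_num)] at a1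
    have a3 : Nat.card (Sylow 3 C) % 3 = 1 := card_sylow_modEq_one 3 C
    exact (Nat.card_eq_one_iff_unique.mp (by omega)).1
  obtain ⟨⟨y, hy⟩, o⟩ := exists_prime_orderOf_dvd_card' (G := Q) 3 (by rw [q1]; norm_num)
  rw [Subgroup.orderOf_mk, ← Subgroup.orderOf_coe] at o
  have hP : P ≤ Subgroup.centralizer {y.1} := fun x hx =>
    Subgroup.mem_centralizer_singleton_iff.mpr (y.2 x hx)
  obtain ⟨r, r1, r2⟩ := card_over B.card B.ind hP
  have N1 := card_norm B hc
  have x1 : 17 * 9 ∣ Nat.card ↥(Subgroup.normalizer (P : Set G) ⊓ Subgroup.centralizer {y.1}) := by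
    refine Nat.Coprime.mul_dvd_of_dvd_of_dvd (by norm_num) ?_
      (Dvd.dvd.trans ?_ (card_dvd_inf (Subgroup.centralizer_le_normalizer _) y))
    · rw [← B.card]
      exact Subgroup.card_dvd_of_le (le_inf Subgroup.le_normalizer hP)
    · rw [show 9 = 3 ^ 2 from rfl, ← q1]
      refine Subgroup.card_dvd_of_le fun x hx => Subgroup.mem_centralizer_singleton_iff.mpr ?_
      exact congrArg Subtype.val
        (IsPGroup.commutative_of_card_eq_prime_sq q1 (⟨x, hx⟩ : Q) ⟨y, hy⟩)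
  have x2 := orbit_mul (Subgroup.normalizer (P : Set G)) y.1
  have x3 : {z | ∃ n ∈ Subgroup.normalizer (P : Set G), n * y.1 * n⁻¹ = z}.ncard ≤ 8 := by
    have a1 : ((Q : Subgroup C).map C.subtype : Set G).ncard = 9 := by
      rw [← Nat.card_coe_set_eq]
      exact (Subgroup.card_map_of_injective C.subtype_injective).trans q1
    have a2 := Set.ncard_diff_singleton_of_mem
      (show (1 : G) ∈ ((Q : Subgroup C).map C.subtype : Set G) from one_mem _)
    rw [a1] at a2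
    refine le_of_le_of_eq (Set.ncard_le_ncard ?_) a2
    rintro _ ⟨n, hn, rfl⟩
    have b1 : n * y.1 * n⁻¹ ∈ C := conj_mem_cen hn y.2
    have b2 : orderOf (n * y.1 * n⁻¹) = 3 := (H9.orderOf_conj _ _).trans o
    obtain ⟨Q', hQ'⟩ := (IsPGroup.of_card (p := 3) (n := 1) (G := Subgroup.zpowers (⟨_, b1⟩ : C))
      (by rw [Nat.card_zpowers, Subgroup.orderOf_mk, b2]; rfl)).exists_le_sylow
    refine ⟨⟨_, Subsingleton.elim Q' Q ▸ hQ' (Subgroup.mem_zpowers _), rfl⟩, fun h => ?_⟩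
    rw [Set.mem_singleton_iff.mp h, orderOf_one] at b2
    omega
  obtain ⟨v, hv⟩ := B.int_of_unique (Finset.mem_union.mp c1)
    (fun ψ h k => c3 ψ (Finset.mem_union.mpr h) (k.trans c2)) y.1
  have v1 := modEq_of_val (irr_chr χ) Nat.prime_three (k := 1)
    (by rw [pow_one, ← o, pow_orderOf_eq_one]) hv
  obtain ⟨x, hx, ox⟩ := B.exists_sing
  have cxy : Commute x y.1 := y.2 x hx
  have v2 : v ≡ -1 [ZMOD (17 : ℕ)] := by
    have a1 : 17 ∣ orderOf (x * y.1 ^ 2) := H35.dvd_orderOf_mul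
      (H35.isPElt_of_mem (H84.isPGroup_of_card B.card) hx) (by rintro rfl; simp at ox)
      (fun h => by have := h.trans (orderOf_pow_dvd 2); omega) (cxy.pow_right 2)
    refine modEq_pow (irr_chr χ) fact17.out (k := 1) (sχ ▸ z5 χ χZ _ a1) ?_
    rw [pow_one, (cxy.pow_right 2).mul_pow, ← ox, pow_orderOf_eq_one, one_mul, ox, ← pow_mul,
      show 2 * 17 = 3 * 11 + 1 from rfl, pow_succ, pow_mul, ← o, pow_orderOf_eq_one, one_pow,
      one_mul, hv]
  have v3 := dvd_central χ hv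
  have v4 := sq_add_sq_le (χ := χ) (ψ := triv G) (b := 1)
    (by rintro rfl; rw [dg_triv] at c2; omega) hv (by simp [triv_apply])
  have i1 := (Subgroup.centralizer ({y.1} : Set G)).index_mul_card
  have i2 := B19.not_dvd_cent C19 o Nat.prime_three (by norm_num)
  have i3 : Nat.card (Subgroup.centralizer ({y.1} : Set G)) ∣ 2643840 :=
    ((Nat.Prime.coprime_iff_not_dvd fact19.out).mpr i2).symm.dvd_of_dvd_mul_left
      ((Subgroup.card_subgroup_dvd_card _).trans hG.dvd)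
  have c0 : 0 < Nat.card (Subgroup.centralizer ({y.1} : Set G)) := Nat.card_pos
  rw [N1] at x2
  change ((dg χ : ℕ) : ℤ) ≡ _ [ZMOD _] at v1
  rw [c2] at v1 v3
  rw [show (Subgroup.centralizer ({y.1} : Set G)).index = 50232960 /
    Nat.card (Subgroup.centralizer ({y.1} : Set G)) by
      rw [← hG, ← i1, Nat.mul_div_cancel _ c0]] at v3
  exact y17' i3 x1 x2 x3 r1 r2 v1 v2 v3 v4

end H8.J3O
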