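import Mathlib
import Cfsg.Agent.Base
import Cfsg.Agent.S0494
import Cfsg.Agent.Lib.Core.MinNormal
import Cfsg.Agent.Lib.Core.GrpBasic
import Cfsg.Agent.Lib.J3O.P17

/-! Groups of order 1920 with a central involution and small Sylow 5-normalisers. -/

set_option autoImplicit false
set_option linter.unusedSectionVars false
set_option linter.style.haveILetI false

open H17.Ord Subgroup

namespace H8.J3O

variable {H : Type*} [Group H] [Finite H]

theorem ncard_mod {p : ℕ} [Fact p.Prime] {x : H} (hx : x ^ p = 1) (Ω : Set H)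
    (h : ∀ y ∈ Ω, x * y * x⁻¹ ∈ Ω) : Ω.ncard ≡ {y ∈ Ω | x * y * x⁻¹ = y}.ncard [MOD p] := by
  classical
  haveI := Fintype.ofFinite Ω
  let f : Function.End Ω := fun y => ⟨_, h y y.2⟩
  have k : ∀ n (y : Ω), ((f ^ n) y : H) = x ^ n * y * (x ^ n)⁻¹ := fun n => by
    induction n with
    | zero => intro y; simp; rfl
    | succ n ih =>
      intro y
      rw [pow_succ']
      change x * ((f ^ n) y : H) * x⁻¹ = _
      rw [ih]; group
  have := Equiv.Perm.card_fixedPoints_modEq (f := f) (p := p) (n := 1) (by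
    funext y
    refine Subtype.ext ?_
    rw [pow_one, k, hx]; simp; rfl)
  rw [← Nat.card_eq_fintype_card, ← Nat.card_eq_fintype_card, Nat.card_coe_set_eq] at this
  rw [← Nat.card_coe_set_eq {y ∈ Ω | x * y * x⁻¹ = y}]
  refine this.trans (by rw [Nat.card_congr (Equiv.ofBijective
    (fun y : f.fixedPoints => (⟨y.1.1, y.1.2, congrArg Subtype.val y.2⟩ : {y ∈ Ω | x * y * x⁻¹ = y}))
    ⟨fun a b e => Subtype.ext (Subtype.ext (by simpa using e)),
      fun ⟨y, h1, h2⟩ => ⟨⟨⟨y, h1⟩, Subtype.ext h2⟩, rfl⟩⟩)])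

theorem mem_zpowers_two {z y : H} (hz : orderOf z = 2) (h : y ∈ zpowers z) : y = 1 ∨ y = z := by
  classical
  obtain ⟨k, hk, rfl⟩ := Finset.mem_image.mp (mem_zpowers_iff_mem_range_orderOf.mp h)
  rw [hz, Finset.mem_range] at hk
  interval_cases k <;> simp

structure Hyp (H : Type*) [Group H] (z : H) : Prop where
  card : Nat.card H = 1920
  ord : orderOf z = 2
  cen : ∀ g, g * z = z * g
  five : ∀ F : Subgroup H, Nat.card F = 5 →
    Nat.card (centralizer (F : Set H)) ∣ 30 ∧ Nat.card (normalizer (F : Set H)) ∣ 60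

namespace Hyp
variable {z : H} (h : Hyp H z)
include h

theorem five' {F : Subgroup H} (hF : Nat.card F = 5) :
    Nat.card (centralizer (F : Set H)) = 10 ∧ Nat.card (normalizer (F : Set H)) = 20 := by
  have i := F.index_mul_card
  rw [hF, h.card] at i
  obtain ⟨r, r1, r2⟩ := card_over hF (by omega) (le_top : F ≤ ⊤)
  rw [card_top, h.card, inf_top_eq] at r1
  obtain ⟨a, b⟩ := h.five F hF
  have c : 5 * 2 ∣ Nat.card (centralizer (F : Set H)) :=
    Nat.Coprime.mul_dvd_of_dvd_of_dvd (by norm_num) (hF ▸ card_dvd_of_le (H84.le_Cen_of_card hF))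
      (h.ord ▸ orderOf_dvd_natCard _ fun g _ => h.cen g)
  have d := card_dvd_of_le (centralizer_le_normalizer (F : Set H))
  have e := c.trans d
  generalize Nat.card (centralizer (F : Set H)) = x at *
  generalize Nat.card (normalizer (F : Set H)) = y at *
  have y1 := Nat.le_of_dvd (by norm_num) b
  have x1 := Nat.le_of_dvd (by norm_num) a
  obtain rfl : y = 20 := by
    obtain ⟨w, rfl⟩ := e
    have : w ≤ 6 := by omega
    interval_cases w <;> omega
  obtain ⟨w, rfl⟩ := c
  have : w ≤ 3 := by omega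
  interval_cases w <;> omega

theorem cent {x : H} (hx : orderOf x = 5) : Nat.card (centralizer ({x} : Set H)) = 10 := by
  have k : Nat.card (zpowers x) = 5 := by rw [Nat.card_zpowers, hx]
  rw [H4.centralizer_eq_of_card Nat.prime_five k (mem_zpowers x) (by rintro rfl; simp at hx)]
  exact (h.five' k).1

theorem exists_five : ∃ x : H, orderOf x = 5 :=
  exists_prime_orderOf_dvd_card' 5 (by rw [h.card]; norm_num)

theorem inf_eq {x : H} (hx : orderOf x = 5) {E : Subgroup H} (hE : IsPGroup 2 E) (hz : z ∈ E) :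
    E ⊓ centralizer {x} = zpowers z := by
  obtain ⟨k, hk⟩ := IsPGroup.iff_card.mp (hE.to_le (inf_le_left : E ⊓ centralizer {x} ≤ E))
  have a := card_dvd_of_le (inf_le_right : E ⊓ centralizer {x} ≤ _)
  rw [h.cent hx, hk] at a
  refine (eq_of_le_of_card_ge (zpowers_le.mpr (mem_inf.mpr ⟨hz, mem_centralizer_singleton_iff.mpr
    (h.cen x).symm⟩)) ?_).symm
  rw [Nat.card_zpowers, h.ord, hk]
  exact Nat.le_of_dvd two_pos ((Nat.Coprime.pow_left k (by norm_num : Nat.Coprime 2 5)).dvd_of_dvd_mul_right a)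

theorem mod {x : H} (hx : orderOf x = 5) {E : Subgroup H} (hE : IsPGroup 2 E) (hz : z ∈ E)
    {Ω : Set H} (h1 : Ω ⊆ E) (h2 : ∀ y ∈ Ω, x * y * x⁻¹ ∈ Ω) :
    Ω.ncard % 5 = (Ω ∩ {1, z}).ncard % 5 := by
  refine (ncard_mod (p := 5) (hx ▸ pow_orderOf_eq_one x) Ω h2).trans ?_
  rw [show {y ∈ Ω | x * y * x⁻¹ = y} = Ω ∩ {1, z} from Set.ext fun y => and_congr_right fun hy =>
    ⟨fun k => mem_zpowers_two h.ord (h.inf_eq hx hE hz ▸ ⟨h1 hy,
      mem_centralizer_singleton_iff.mpr (mul_inv_eq_iff_eq_mul.mp k).symm⟩), ?_⟩]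
  rintro (rfl | rfl)
  · simp
  · rw [h.cen, mul_inv_cancel_right]

theorem z_ne : z ≠ 1 := fun k => by have := h.ord; rw [k, orderOf_one] at this; omega

theorem mod_two {E : Subgroup H} (hE : IsPGroup 2 E) (hz : z ∈ E) {Ω : Set H} (h1 : Ω ⊆ E)
    (h2 : ∀ x, ∀ y ∈ Ω, x * y * x⁻¹ ∈ Ω) (h3 : 1 ∈ Ω) (h4 : z ∈ Ω) : Ω.ncard % 5 = 2 := by
  obtain ⟨x, hx⟩ := h.exists_five
  rw [h.mod hx hE hz h1 (h2 x), Set.inter_eq_right.mpr (Set.pair_subset h3 h4),
    Set.ncard_pair h.z_ne.symm]

theorem not_three {K : Subgroup H} [K.Normal] (h5 : ¬ 5 ∣ Nat.card K) : ¬ 3 ∣ Nat.card K := by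
  intro h3
  haveI : Fact (Nat.Prime 3) := ⟨Nat.prime_three⟩
  obtain ⟨D⟩ : Nonempty (Sylow 3 K) := inferInstance
  have k0 := card_subgroup_dvd_card K
  rw [h.card] at k0
  have c2 : Nat.card ((D : Subgroup K).map K.subtype) = 3 ^ 1 := by
    rw [card_map_of_injective K.subtype_injective]
    exact H36.card_sylow_eq_pow D h3 fun k => absurd (k.trans k0) (by norm_num)
  have c3 : 5 ∣ Nat.card (normalizer (((D : Subgroup K).map K.subtype : Subgroup H) : Set H)) := by
    have := relIndex_sup_right (normalizer (((D : Subgroup K).map K.subtype : Subgroup H) : Set H)) K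
    rw [D.normalizer_sup_eq_top, relIndex_top_right] at this
    refine Dvd.dvd.trans ?_ (this.dvd.trans (relIndex_dvd_card _ _))
    exact (Nat.prime_five.dvd_mul.mp (by rw [K.index_mul_card, h.card]; norm_num)).resolve_right h5
  obtain ⟨⟨x, hx⟩, o⟩ := exists_prime_orderOf_dvd_card' 5 c3
  rw [orderOf_mk] at o
  set T := (D : Subgroup K).map K.subtype
  have k := ncard_mod (p := 5) (o ▸ pow_orderOf_eq_one x) T fun y => (mem_normalizer_iff.mp hx y).mp
  have k1 : {y ∈ (T : Set H) | x * y * x⁻¹ = y} = (T ⊓ centralizer {x} : Subgroup H) := by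
    ext y
    exact and_congr_right fun _ => by
      rw [mul_inv_eq_iff_eq_mul, eq_comm]; exact mem_centralizer_singleton_iff.symm
  rw [k1, ← Nat.card_coe_set_eq, ← Nat.card_coe_set_eq] at k
  have a := card_dvd_of_le (inf_le_right : T ⊓ centralizer {x} ≤ _)
  have b := card_dvd_of_le (inf_le_left : T ⊓ centralizer {x} ≤ _)
  rw [h.cent o] at a
  change Nat.card T % 5 = Nat.card (T ⊓ centralizer {x} : Subgroup H) % 5 at k
  rw [c2] at k b
  rcases (Nat.dvd_prime Nat.prime_three).mp b with e | e <;> rw [e] at a k <;> omega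

theorem not_five {M : Subgroup H} [M.Normal] (hM : M ≠ ⊤) (hz : z ∈ M) : ¬ 5 ∣ Nat.card M := by
  intro h5
  obtain ⟨F⟩ : Nonempty (Sylow 5 M) := inferInstance
  have k0 := M.index_mul_card
  rw [h.card] at k0
  have c1 : Nat.card F = 5 ^ 1 := H36.card_sylow_eq_pow F h5 fun k =>
    absurd (k.trans (Dvd.intro_left _ k0)) (by norm_num)
  set T := (F : Subgroup M).map M.subtype
  have c2 : Nat.card T = 5 := (card_map_of_injective M.subtype_injective).trans c1
  obtain ⟨a, b⟩ := h.five' c2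
  have c3 := relIndex_sup_right (normalizer (T : Set H)) M
  rw [F.normalizer_sup_eq_top, relIndex_top_right] at c3
  have c4 := H1.card_inf_mul_relIndex M (normalizer (T : Set H))
  have hC : centralizer (T : Set H) ≤ M := by
    refine (eq_of_le_of_card_ge (inf_le_right : M ⊓ centralizer (T : Set H) ≤ _) ?_).ge.trans
      inf_le_left
    rw [a]
    refine Nat.le_of_dvd Nat.card_pos (Nat.Coprime.mul_dvd_of_dvd_of_dvd (m := 5) (n := 2)
      (by norm_num) (c2 ▸ card_dvd_of_le (le_inf (map_subtype_le _) (H84.le_Cen_of_card c2)))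
      (h.ord ▸ orderOf_dvd_natCard _ ⟨hz, fun g _ => h.cen g⟩))
  have c5 := card_le_of_le (le_inf hC (centralizer_le_normalizer _))
  have c6 : M.index ≠ 1 := fun k => hM (index_eq_one.mp k)
  rw [← c3, b] at c4
  have c7 : M.index = 2 := by
    have : M.index ≠ 0 := index_ne_zero_of_finite
    have : M.index < 3 := by by_contra; nlinarith
    omega
  have c8 : M ⊓ normalizer (T : Set H) = centralizer (T : Set H) :=
    (eq_of_le_of_card_ge (le_inf hC (centralizer_le_normalizer _)) (by rw [c7] at c4; omega)).symm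
  have c9 : normalizer ((F : Subgroup M) : Set M) ≤ centralizer ((F : Subgroup M) : Set M) :=
    fun n hn y hy => Subtype.ext ((c8.le ⟨n.2, le_normalizer_map M.subtype ⟨n, hn, rfl⟩⟩) y ⟨y, hy, rfl⟩)
  have d := MonoidHom.ker_transferSylow_isComplement' F c9
  set K := (MonoidHom.transferSylow F c9).ker
  have d1 := d.card_mul
  rw [c1] at d1
  have d2 : Nat.card K = 192 := by rw [c7] at k0; omega
  haveI : K.Characteristic := characteristic_iff_map_le.mpr fun φ => by
    refine H1.le_of_coprime_index ?_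
    rw [card_map_of_injective φ.injective, d2, d.symm.index_eq_card, c1]; norm_num
  refine h.not_three (K := K.map M.subtype) ?_ ?_ <;>
    rw [card_map_of_injective M.subtype_injective, d2] <;> norm_num

theorem card_two {K : Subgroup H} [hK : K.Normal] (h2 : IsPGroup 2 K) (hz : z ∈ K) :
    Nat.card K = 2 ∨ Nat.card K = 32 := by
  have a := h.mod_two h2 hz (Ω := K) subset_rfl (fun x y k => hK.conj_mem y k x) (one_mem _) hz
  rw [← Nat.card_coe_set_eq] at a
  change Nat.card K % 5 = 2 at a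
  obtain ⟨k, hk⟩ := IsPGroup.iff_card.mp h2
  have b := card_subgroup_dvd_card K
  rw [h.card, hk] at b
  rw [hk] at a ⊢
  have c : k < 8 := by
    by_contra c
    exact absurd ((pow_dvd_pow 2 (not_lt.mp c)).trans b) (by norm_num)
  interval_cases k <;> omega

theorem exists_E : ∃ (E : Subgroup H) (_ : E.Normal), z ∈ E ∧ Nat.card E = 32 ∧
    Nonempty ((H ⧸ E) ≃* alternatingGroup (Fin 5)) := by
  haveI : (zpowers z).Normal := ⟨fun y k g => by
    rcases mem_zpowers_two h.ord k with rfl | rfl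
    · simp
    · rw [h.cen, mul_inv_cancel_right]; exact k⟩
  obtain ⟨M, hM, m1, m2, m3⟩ := H3.exists_maximal_normal_ge (zpowers z) fun k => by
    have := h.card
    rw [← card_top, ← k, Nat.card_zpowers, h.ord] at this
    omega
  have hz := m2 (mem_zpowers z)
  haveI := H3.isSimpleGroup_quotient_of_maximal_normal M m1 m3
  have a := h.not_five m1 hz
  have b := h.not_three a
  have c := M.index_mul_card
  rw [h.card] at c
  have d : Nat.card M ∣ 2 ^ 7 :=
    ((Nat.prime_three.coprime_iff_not_dvd).mpr b).symm.dvd_of_dvd_mul_left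
      (((Nat.prime_five.coprime_iff_not_dvd).mpr a).symm.dvd_of_dvd_mul_left (Dvd.intro_left _ c))
  rcases h.card_two (IsPGroup.of_card_dvd_pow d) hz with e | e <;> rw [e] at c
  · have f : Nat.card (H ⧸ M) = 960 := by rw [← index_eq_card]; omega
    refine absurd f (H4.Sv.card_ne (fun k => ?_) (by decide +kernel))
    obtain ⟨x, y, k'⟩ := noncomm_of_not_prime (G := H ⧸ M) (by rw [f]; norm_num)
    exact k' (k.is_comm.comm x y)
  · exact ⟨M, hM, hz, e, Cfsg.Agent.S0494.result (by rw [← index_eq_card]; omega)⟩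

variable {E : Subgroup H} [hE : E.Normal] (hz : z ∈ E) (hc : Nat.card E = 32)
  (φ : (H ⧸ E) ≃* alternatingGroup (Fin 5))
include hz hc φ

theorem cen_le : centralizer (E : Set H) ≤ E := by
  haveI := φ.isSimpleGroup
  have a : ((centralizer (E : Set H)).map (QuotientGroup.mk' E)).Normal :=
    Normal.map inferInstance _ (QuotientGroup.mk'_surjective E)
  rcases a.eq_bot_or_eq_top with k | k
  · rwa [Subgroup.map_eq_bot_iff, QuotientGroup.ker_mk'] at k
  · have b := card_map_dvd (centralizer (E : Set H)) (QuotientGroup.mk' E)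
    rw [k, card_top, ← index_eq_card] at b
    have c := E.index_mul_card
    rw [hc, h.card] at c
    obtain ⟨⟨x, hx⟩, o⟩ := exists_prime_orderOf_dvd_card' 5 (Dvd.dvd.trans (by omega) b)
    rw [orderOf_mk] at o
    have d : E ≤ centralizer {x} := fun y hy => mem_centralizer_singleton_iff.mpr (hx y hy)
    have := card_le_of_le d
    rw [hc, h.cent o] at this
    omega

omit φ in
theorem dichotomy : (∀ y ∈ E, y ∈ centralizer (E : Set H) → y = 1 ∨ y = z) ∨ ∀ y ∈ E, y * y = 1 := by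
  have pE : IsPGroup 2 E := IsPGroup.of_card (n := 5) hc
  rcases h.card_two (K := E ⊓ centralizer (E : Set H)) (pE.to_le inf_le_left)
    ⟨hz, fun g _ => h.cen g⟩ with a | a
  · refine Or.inl fun y h1 h2 => mem_zpowers_two h.ord ?_
    rw [eq_of_le_of_card_ge (zpowers_le.mpr (mem_inf.mpr ⟨hz, fun g _ => h.cen g⟩) :
      zpowers z ≤ E ⊓ centralizer (E : Set H)) (by rw [Nat.card_zpowers, h.ord, a])]
    exact ⟨h1, h2⟩
  right
  have ab : ∀ x ∈ E, ∀ y ∈ E, x * y = y * x := fun x hx y hy =>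
    ((eq_of_le_of_card_ge (inf_le_left : E ⊓ centralizer (E : Set H) ≤ E)
      (by rw [a, hc])).ge hy).2 x hx
  have z2 := H9.mul_self_of_orderOf_two h.ord
  let Ω : Subgroup H :=
    { carrier := {y | y ∈ E ∧ y * y = 1}
      one_mem' := ⟨one_mem _, mul_one _⟩
      mul_mem' := fun {a b} ha hb => ⟨mul_mem ha.1 hb.1, by
        rw [mul_assoc, ← mul_assoc b, ← ab a ha.1 b hb.1, mul_assoc, hb.2, mul_one, ha.2]⟩
      inv_mem' := fun {a} ha => ⟨inv_mem ha.1, by rw [← mul_inv_rev, ha.2, inv_one]⟩ }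
  haveI : Ω.Normal := ⟨fun y k g => ⟨hE.conj_mem y k.1 g, by
    rw [conj_mul, k.2, mul_one, mul_inv_cancel]⟩⟩
  have oE : Ω ≤ E := fun y k => k.1
  rcases h.card_two (K := Ω) (pE.to_le oE) ⟨hz, z2⟩ with b | b; swap
  · exact fun y hy => ((eq_of_le_of_card_ge oE (by rw [b, hc])).ge hy).2
  have o1 : ∀ y ∈ E, y * y = 1 → y = 1 ∨ y = z := fun y h1 h2 => mem_zpowers_two h.ord (by
    rw [eq_of_le_of_card_ge (zpowers_le.mpr ⟨hz, z2⟩ : zpowers z ≤ Ω)
      (by rw [Nat.card_zpowers, h.ord, b])]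
    exact ⟨h1, h2⟩)
  have o2 : ∀ w ∈ E, w * w ≠ z := fun w hw k => by
    obtain ⟨x, hx⟩ := h.exists_five
    have c := h.mod hx pE hz (Ω := {y | y ∈ E ∧ y * y = z}) (fun y k => k.1) fun y k =>
      ⟨hE.conj_mem y k.1 x, by rw [conj_mul, k.2, h.cen, mul_inv_cancel_right]⟩
    have c1 : {y | y ∈ E ∧ y * y = z} = {w, w * z} := by
      ext y
      refine ⟨fun k' => ?_, ?_⟩
      · have := o1 (w⁻¹ * y) (mul_mem (inv_mem hw) k'.1) (by
          rw [mul_assoc, ← mul_assoc y, ab y k'.1 _ (inv_mem hw), mul_assoc, k'.2, ← k]; group)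
        exact this.imp (fun e => (inv_mul_eq_one.mp e).symm) fun e => by rw [← e]; simp
      · rintro (rfl | rfl)
        · exact ⟨hw, k⟩
        · exact ⟨mul_mem hw hz, by
            rw [mul_assoc, ← mul_assoc z, ← h.cen w, mul_assoc, z2, mul_one, k]⟩
    have c2 : {y | y ∈ E ∧ y * y = z} ∩ {1, z} = ∅ := by
      refine Set.eq_empty_of_forall_notMem ?_
      rintro y ⟨k1, rfl | rfl⟩
      · exact h.z_ne (k1.2.symm.trans (mul_one _))
      · exact h.z_ne (k1.2.symm.trans z2)
    rw [c2, c1, Set.ncard_pair fun e => h.z_ne (left_eq_mul.mp e), Set.ncard_empty] at c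
    omega
  have o3 : ∀ k, ∀ y ∈ E, y ^ 2 ^ k = 1 → y * y = 1 := fun k => by
    induction k with
    | zero => intro y _ e; simp [show y = 1 by simpa using e]
    | succ k ih =>
      intro y hy e
      rw [pow_succ', pow_mul, sq] at e
      exact (o1 _ (mul_mem hy hy) (ih _ (mul_mem hy hy) e)).resolve_right (o2 y hy)
  intro y hy
  obtain ⟨k, hk⟩ := pE ⟨y, hy⟩
  exact o3 k y hy (congrArg Subtype.val hk)

theorem bound (ab : ∀ x ∈ E, ∀ y ∈ E, x * y = y * x) {i : H} (h1 : i ∉ E) (h2 : i * i = 1) :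
    Nat.card ↥(E ⊓ centralizer {i}) ≤ 8 := by
  have pE : IsPGroup 2 E := IsPGroup.of_card (n := 5) hc
  let π : H →* alternatingGroup (Fin 5) := φ.toMonoidHom.comp (QuotientGroup.mk' E)
  have π1 : ∀ g, π g = 1 → g ∈ E := fun g k =>
    (QuotientGroup.eq_one_iff g).mp (φ.map_eq_one_iff.mp k)
  obtain ⟨a, a1, a2, a3⟩ := (by decide +kernel : ∀ i : Equiv.Perm (Fin 5), Equiv.Perm.sign i = 1 →
    i * i = 1 → i ≠ 1 → ∃ h : Equiv.Perm (Fin 5), Equiv.Perm.sign h = 1 ∧
      (i * (h * i * h⁻¹)) ^ 5 = 1 ∧ i * (h * i * h⁻¹) ≠ 1) (π i).1 (π i).2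
    (congrArg Subtype.val (show π i * π i = 1 by rw [← map_mul, h2, map_one]))
    fun k => h1 (π1 i (Subtype.ext k))
  obtain ⟨g, hg⟩ := (φ.surjective.comp (QuotientGroup.mk'_surjective E)) ⟨a, a1⟩
  change π g = _ at hg
  set w := i * (g * i * g⁻¹)
  have w1 : (π w).1 = (π i).1 * (a * (π i).1 * a⁻¹) := by
    simp only [w, map_mul, map_inv, hg]; rfl
  have w2 : 5 ∣ orderOf w := by
    have : orderOf (π w) = 5 := orderOf_eq_prime (Subtype.ext (w1 ▸ a2 : (π w).1 ^ 5 = 1))
      fun k => a3 (w1.symm.trans (congrArg Subtype.val k))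
    exact this ▸ orderOf_map_dvd π w
  have w3 : orderOf (w ^ (orderOf w / 5)) = 5 := orderOf_pow_orderOf_div (orderOf_pos w).ne' w2
  set A := E ⊓ centralizer {i}
  set A' := A.map (MulAut.conj g).toMonoidHom
  have c1 : Nat.card A' = Nat.card A := card_map_of_injective (MulAut.conj g).injective
  have c2 : A' ≤ E ⊓ centralizer {g * i * g⁻¹} := by
    rintro _ ⟨y, ⟨y1, y2⟩, rfl⟩
    refine ⟨hE.conj_mem y y1 g, mem_centralizer_singleton_iff.mpr ?_⟩
    change g * y * g⁻¹ * _ = _ * (g * y * g⁻¹)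
    rw [conj_mul, conj_mul, mem_centralizer_singleton_iff.mp y2]
  have c3 : A ⊓ A' ≤ zpowers z := fun y ⟨y1, y2⟩ => by
    rw [← h.inf_eq w3 pE hz]
    refine ⟨y1.1, mem_centralizer_singleton_iff.mpr (Commute.pow_right (Commute.mul_right ?_ ?_) _)⟩
    · exact mem_centralizer_singleton_iff.mp y1.2
    · exact mem_centralizer_singleton_iff.mp (c2 y2).2
  have c4 := H1.card_sup_mul_card_inf_of_le_normalizer (H := A) (N := A')
    (le_trans (b := centralizer (A' : Set H)) (fun y hy x hx => ab x (c2 hx).1 y hy.1)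
      (centralizer_le_normalizer _))
  have c5 := card_le_of_le c3
  have c6 := card_le_of_le (sup_le inf_le_left (c2.trans inf_le_left) : A ⊔ A' ≤ E)
  rw [Nat.card_zpowers, h.ord] at c5
  rw [hc] at c6
  rw [c1] at c4
  nlinarith [Nat.mul_le_mul c6 c5]

end Hyp

end H8.J3O
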