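import Mathlib
import Cfsg.Agent.Base
import Cfsg.Agent.Lib.J3O.Defs

/-! Numerical checks for simple groups of order 50232960: the prime 5. -/

set_option autoImplicit false

open H4.Sv H17.Ord

namespace H8.J3O

def oA : List ℕ := [969, 816, 76, 76]
def oB : List ℕ := [969, 2736, 2584, 816]
def oC : List ℕ := [969, 3876, 2584, 324]
def oJ : List ℕ := [324, 323, 323]

/-- the blocks removed by the values of two involutions -/
def L5 : List (ℕ × ℕ × List ℕ) := [
  (4, 18, oB), (4, 3, oB), (4, 48, [646, 324, 969, 646]), (4, 8, [646, 324, 969, 646]),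
  (4, 3, [646, 324, 969, 646]), (4, 48, [76, 324, 171, 76]), (4, 8, [76, 324, 171, 76]),
  (4, 3, [76, 324, 171, 76]), (4, 8, [76, 1539, 816, 646]), (4, 3, [76, 1539, 816, 646]),
  (4, 8, [171, 2736, 2584, 324]), (4, 3, [171, 2736, 2584, 324]), (4, 3, [646, 1216, 1539, 324]),
  (4, 3, [76, 1216, 969, 324]), (2, 16, oJ), (2, 1, oJ)]

theorem c5 : optsAll 50232960 5 (fun e c => c % 17 == 0 || c % 19 == 0 ||
    feasF 50232960 5 e c (fun d => f17 d && f19 d) fun o =>
      (e == 4 && (oA.isPerm o || oC.isPerm o || ((c == 108 || c == 8) && oB.isPerm o))) ||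
      (e == 2 && (c == 96 || c == 6) && oJ.isPerm o) ||
      L5.any fun t => t.1 == e && t.2.1 == c && t.2.2.isPerm o) = true := by decide +kernel

/-- bound for an involution inverting a subgroup of order 17 -/
def g17 (d : ℕ) (u : ℤ) : Bool :=
  if d % 17 = 0 then 17 * u.natAbs ≤ d else if d % 17 = 1 then 17 * u.natAbs ≤ d + 16 else
    if d % 17 = 16 then 17 * u.natAbs + 16 ≤ d else true

def okm (c m : ℕ) (A : List (ℕ × ℤ)) : Bool :=
  decide (m ≤ 5 * c) && (c % 2 == 0 || m == 0 || 5 * c % m == 0) &&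
    A.all fun a => A.all fun b => a.1 != 76 || b.1 != 76 || a.2 == b.2

/-- all admissible triples (centraliser order, inverting conjugates, column) -/
noncomputable def adm (e c k : ℕ) (f : ℕ → ℤ → Bool) (o : List ℕ) : List (ℕ × ℕ × List (ℕ × ℤ)) :=
  ((divs 155520).filter fun C => C % k == 0 && (C % 5 != 0 || c % 2 == 0)).flatMap fun C =>
    ((cl 50232960 5 e c C (fun d u => fl [5] 5 C d u && f d u) o).map fun A =>
      (C, mOf 50232960 5 e c C A, A)).filter fun x => okm c x.2.1 x.2.2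

theorem k5 : ∀ t ∈ L5, good 5 t.1 t.2.2 = true ∧
    ∀ x ∈ adm t.1 t.2.1 128 (fun _ _ => true) t.2.2, ∀ y ∈ adm t.1 t.2.1 2 g17 t.2.2,
      (((5 - 1) / t.1 * (x.2.1 * x.1 * (y.2.1 * y.1)) : ℕ) : ℤ) ≠ (5 : ℕ) * t.2.1 *
        (((5 - 1) / t.1 : ℕ) * (50232960 : ℕ) + bil 50232960 5 t.1 x.2.2 y.2.2) := by decide +kernel

theorem j5 : good 5 2 oJ = true ∧
    (∀ x ∈ adm 2 6 128 (fun _ _ => true) oJ, x.1 = 1920 ∧ x.2.1 = 20) ∧
    ∀ x ∈ adm 2 6 2 (fun _ _ => true) oJ, x.2.1 ≠ 0 := by decide +kernel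

end H8.J3O
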