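import Mathlib
import Cfsg.Agent.Base
import Cfsg.Agent.Lib.J3O.P17
import Cfsg.Agent.Lib.J3O.N5

/-! In a simple group of order 50232960 the normaliser of a Sylow 5-subgroup has order 60, and
there is one class of involutions, with centralisers of order 1920. -/

set_option autoImplicit false
set_option linter.unusedSectionVars false
set_option linter.style.haveILetI false

open Cfsg H4.Sv H17.Ord

namespace H8.J3O

variable {G : Type*} [Group G] [Finite G] [IsSimpleGroup G]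

structure Two (G : Type*) [Group G] [Finite G] where
  R : Subgroup G
  Q : Subgroup G
  B19 : PB G 19 R 9
  B17 : PB G 17 Q 8
  C19 : Subgroup.centralizer (R : Set G) = R
  C17 : Subgroup.centralizer (Q : Set G) = Q

theorem nonempty_two (hG : Nat.card G = 50232960) : Nonempty (Two G) := by
  obtain ⟨R, C19, ⟨B19⟩⟩ := step19 hG
  obtain ⟨Q, C17, ⟨B17⟩⟩ := step17 hG B19 C19
  exact ⟨⟨R, Q, B19, B17, C19, C17⟩⟩

theorem Two.inverter (T : Two G) : ∃ s : G, orderOf s = 2 ∧ ∀ y ∈ T.Q, s * y * s⁻¹ = y⁻¹ :=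
  exists_inverter T.B17.card (by norm_num) T.C17 (by
    rw [card_norm T.B17 (c := 1) (by rw [T.C17, T.B17.card])]; norm_num)

theorem Two.g17_of (T : Two G) {s : G} (hs : orderOf s = 2) (hi : ∀ y ∈ T.Q, s * y * s⁻¹ = y⁻¹)
    {u : IrrCharacter G → ℤ} (hu : ∀ χ : IrrCharacter G, (χ : G → ℂ) s = u χ)
    (χ : IrrCharacter G) : g17 (dg χ) (u χ) = true := by
  have k := fun h => inv_bound T.B17.card (by norm_num)
    (fun g hg => T.B17.val_sg (by norm_num) T.C17 (χ := χ) h hg) hs hi (hu χ)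
  rw [Int.abs_eq_natAbs] at k
  unfold g17
  split_ifs with h1 h2 h3
  · have := k (Or.inl h1)
    rw [if_pos h1] at this
    exact decide_eq_true (by omega)
  · have := k (Or.inr (Or.inl h2))
    rw [if_neg h1, if_pos h2] at this
    exact decide_eq_true (by omega)
  · have := k (Or.inr (Or.inr h3))
    rw [if_neg h1, if_neg h2] at this
    exact decide_eq_true (by omega)
  · rfl

theorem Two.cent_dvd (T : Two G) (hG : Nat.card G = 50232960) {s : G} (hs : orderOf s = 2) :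
    Nat.card (Subgroup.centralizer ({s} : Set G)) ∣ 155520 := by
  have h1 := T.B19.not_dvd_cent T.C19 hs Nat.prime_two (by norm_num)
  have h2 := T.B17.not_dvd_cent T.C17 hs Nat.prime_two (by norm_num)
  refine ((Nat.Prime.coprime_iff_not_dvd fact17.out).mpr h2).symm.dvd_of_dvd_mul_left
    (((Nat.Prime.coprime_iff_not_dvd fact19.out).mpr h1).symm.dvd_of_dvd_mul_left ?_)
  exact (Subgroup.card_subgroup_dvd_card _).trans hG.dvd

theorem Two.mem_adm (T : Two G) (hG : Nat.card G = 50232960) {P : Subgroup G} {e c : ℕ}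
    (B : PB G 5 P e) (he : 1 < e) (hc : Nat.card (Subgroup.centralizer (P : Set G)) = 5 * c)
    [DecidableEq (IrrCharacter G)] {o : List ℕ}
    (h : ∀ d, d ≠ 1 → cnt (B.X ∪ B.Y) d = o.count d) (hg : good 5 e o = true) :
    ∃ L : List (IrrCharacter G), L.Nodup ∧ (∀ χ, χ ∈ L ↔ (χ ∈ B.X ∨ χ ∈ B.Y) ∧ χ ≠ triv G) ∧
      ∀ {s : G} {u : IrrCharacter G → ℤ} {f : ℕ → ℤ → Bool} {k : ℕ}, orderOf s = 2 →
        (∀ χ : IrrCharacter G, (χ : G → ℂ) s = u χ) → (∀ χ, f (dg χ) (u χ) = true) →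
        k ∣ Nat.card (Subgroup.centralizer ({s} : Set G)) →
        (Nat.card (Subgroup.centralizer ({s} : Set G)), nInv P s, L.map (pr u)) ∈ adm e c k f o := by
  obtain ⟨L, l1, l2, -, l4⟩ := colsL B (hna hG) he hG hc h hg
  refine ⟨L, l1, l2, fun {s u f k} hs hu hf hk => List.mem_flatMap.mpr ⟨_, List.mem_filter.mpr
    ⟨mem_divs (by norm_num) (T.cent_dvd hG hs), ?_⟩, List.mem_filter.mpr ⟨List.mem_map.mpr
      ⟨_, l4 hs hu fun χ hχ => ?_, by rw [nInv_eq B he hG hc l1 l2 hs hu]⟩, ?_⟩⟩⟩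
  · simp only [Bool.and_eq_true, Bool.or_eq_true, beq_iff_eq, bne_iff_ne, or_iff_not_imp_left,
      not_not]
    refine ⟨Nat.mod_eq_zero_of_dvd hk, fun k5 => ?_⟩
    obtain ⟨g, g1, g2⟩ := exists_sing_pow Nat.prime_five (by norm_num) hs
      (Nat.dvd_of_mod_eq_zero k5)
    have := ((hs ▸ g2 ▸ orderOf_pow_dvd _ : 2 ∣ orderOf g).trans (orderOf_dvd_cent g)).trans
      (card_cent_dvd B.card B.ind g1)
    omega
  · rw [B.fl_of (Q := [5]) (by rw [hG]; decide) hs rfl hu χ hχ, hf]; rfl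
  · simp only [okm, Bool.and_eq_true, Bool.or_eq_true, beq_iff_eq, bne_iff_ne, decide_eq_true_eq,
      List.all_eq_true, List.mem_map, forall_exists_index, and_imp, forall_apply_eq_imp_iff₂]
    refine ⟨⟨hc ▸ nInv_le P s, ?_⟩, fun χ _ ψ _ => ?_⟩
    · rw [or_assoc, or_iff_not_imp_left, or_iff_not_imp_left]
      exact fun k1 k2 => Nat.mod_eq_zero_of_dvd
        (hc ▸ nInv_dvd (by rw [hc, Nat.odd_iff]; omega) hs k2)
    · rw [or_assoc, or_iff_not_imp_left, or_iff_not_imp_left, not_not, not_not]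
      intro k1 k2
      change dg χ = 76 at k1
      change dg ψ = 76 at k2
      exact T.B17.reg_int T.C17 (by rw [k2]; norm_num) (k1.trans k2.symm)
        (by rw [hs]; norm_num) hu

theorem Two.not_AC (T : Two G) (hG : Nat.card G = 50232960) {P : Subgroup G} (B : PB G 5 P 4)
    [DecidableEq (IrrCharacter G)] {o : List ℕ} (ho : o = oA ∨ o = oC)
    (h : ∀ d, d ≠ 1 → cnt (B.X ∪ B.Y) d = o.count d) : False := by
  haveI := Fintype.ofFinite G
  obtain ⟨s, -, hi⟩ := T.inverter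
  have k := fs_sum (hna hG) B (by rcases ho with rfl | rfl <;> decide) h fun χ hχ => by
    by_cases k1 : dg χ = 1
    · rw [eq_triv_of_dg (hna hG) k1]; exact H87.isReal_one
    by_cases k2 : dg χ = 76
    · exact real_of_Y T.B17 T.C17 hi (by rw [k2]; norm_num)
    have k3 := h _ k1
    have k4 : 0 < o.count (dg χ) := k3 ▸ cnt_pos.mpr ⟨χ, Finset.mem_union.mpr hχ, rfl⟩
    have k5 : o.count (dg χ) = 1 := by
      have := List.count_pos_iff.mp k4
      rcases ho with rfl | rfl <;> simp only [oA, oC, List.mem_cons, List.not_mem_nil] at this <;>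
        rcases this with k | k | k | k | k <;> first | omega | (rw [k]; rfl) | exact k.elim
    obtain ⟨ψ, -, -, c3⟩ := cnt_eq_one (k3.trans k5)
    choose r hr using B.int_of_unique hχ fun φ a b =>
      (c3 φ (Finset.mem_union.mpr a) b).trans (c3 χ (Finset.mem_union.mpr hχ) rfl).symm
    exact isReal_of_int hr
  rcases ho with rfl | rfl <;> exact absurd k (by decide)

theorem Two.not_BT (T : Two G) (hG : Nat.card G = 50232960) {P : Subgroup G} (hP : Nat.card P = 5)
    {χ : IrrCharacter G} {ε : ℤ} (h1 : ε = 1 ∨ ε = -1)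
    (hε : ∀ g, 5 ∣ orderOf g → (χ : G → ℂ) g = ε) {q k a r d : ℕ} (hq : q.Prime) (h17 : q ≠ 17)
    (hd : dg χ = d) (hr : d * r * Nat.card (Subgroup.centralizer (P : Set G)) = 50232960)
    (hq' : ¬ q ∣ r) (hk : q ^ k ∣ d) (h0 : 1 % q ^ k ≠ 0) (ha : q ^ a ∣ 50232960)
    (ha' : ¬ q ^ (a + 1) ∣ 50232960) (hx : isX 17 d = true) (hy : ¬ 17 ∣ d)
    [DecidableEq (IrrCharacter G)] {o : List ℕ}
    (h : ∀ d, d ≠ 1 → cnt (T.B17.X ∪ T.B17.Y) d = o.count d) :
    noBT (fun d => d % 5 != 0 && d % q ^ k == 0) d (q ^ a) o = false := by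
  haveI := Fact.mk hq
  subst hd
  obtain ⟨M, hM⟩ := H33.exists_isPModular q
  obtain ⟨⟨x, hx'⟩, ox⟩ := exists_prime_orderOf_dvd_card' (G := P) 5 hP.symm.dvd
  rw [Subgroup.orderOf_mk] at ox
  have i1 : (Subgroup.centralizer ({x} : Set G)).index = dg χ * r := by
    rw [H4.centralizer_eq_of_card Nat.prime_five hP hx' (by rintro rfl; simp at ox)]
    exact Nat.eq_of_mul_eq_mul_right Nat.card_pos
      (((Subgroup.index_mul_card _).trans hG).trans hr.symm)
  refine not_noBT (hna hG) T.B17 T.C17 h h17 hM hy hx (fun ψ hψ => ?_) (by simp [h0]) ?_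
  · obtain ⟨a1, a2⟩ := blk_dvd hM hψ (hε x ox.symm.dvd) h1 i1 hq'
    rw [Bool.and_eq_true, bne_iff_ne, beq_iff_eq]
    exact ⟨fun k => a1 (van_of_dvd Nat.prime_five (by rw [hG]; norm_num)
      (Nat.dvd_of_mod_eq_zero k) ox.symm.dvd),
      Nat.mod_eq_zero_of_dvd (a2 k (i1 ▸ hk.mul_right r))⟩
  · rw [hG, H36.factorization_eq_of_dvd_of_not_dvd hq (by norm_num) ha ha']

theorem step5a (hG : Nat.card G = 50232960) (T : Two G) {P : Subgroup G} (hP : Nat.card P = 5)
    [DecidableEq (IrrCharacter G)] : ∃ B : PB G 5 P 2,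
      Nat.card (Subgroup.centralizer (P : Set G)) = 5 * 6 ∧
        ∀ d, d ≠ 1 → cnt (B.X ∪ B.Y) d = oJ.count d := by
  have na := hna hG
  obtain ⟨e, c, -, hc, -, -, -, -, -, -, -, ⟨B⟩⟩ := setup na 5 (m := 10046592) hG (by norm_num) P hP
  obtain ⟨he, k⟩ := B.opts na hG hc c5
  simp only [Bool.or_eq_true, beq_iff_eq] at k
  rcases k with (k | k) | k
  · exact absurd (hc ▸ Dvd.dvd.mul_left (Nat.dvd_of_mod_eq_zero k) 5)
      (T.B17.not_dvd_cen T.C17 (by norm_num) B.card)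
  · exact absurd (hc ▸ Dvd.dvd.mul_left (Nat.dvd_of_mod_eq_zero k) 5)
      (T.B19.not_dvd_cen T.C19 (by norm_num) B.card)
  obtain ⟨o, o1, -, o3⟩ := B.sieveF na (by norm_num) hG hc
    (fun χ _ _ => by rw [f17_of T.B17 T.C17, f19_of T.B19 T.C19]; rfl) k
  have o4 : ∀ {a : List ℕ}, a.Perm o → ∀ d, d ≠ 1 → cnt (B.X ∪ B.Y) d = a.count d :=
    fun k d hd => (o3 d hd).trans (k.count_eq d).symm
  obtain ⟨b, b1, -, b3⟩ := T.B17.sieveF na (by norm_num) hG (c := 1) (by rw [T.C17, T.B17.card])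
    (fun χ _ _ => f19_of T.B19 T.C19 χ) bt17
  simp only [Bool.and_eq_true] at b1
  clear k
  simp only [Bool.or_eq_true, Bool.and_eq_true, beq_iff_eq, List.isPerm_iff,
    List.any_eq_true] at o1
  rcases o1 with (⟨rfl, (k | k) | ⟨k1, k⟩⟩ | ⟨⟨rfl, rfl | rfl⟩, k⟩) | ⟨t, ht, ⟨rfl, rfl⟩, k⟩
  · exact (T.not_AC hG B (Or.inl rfl) (o4 k)).elim
  · exact (T.not_AC hG B (Or.inr rfl) (o4 k)).elim
  · exfalso
    obtain ⟨χ, c1, c2⟩ := cnt_pos.mp (show 0 < _ by rw [o4 k 2736 (by norm_num)]; decide)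
    obtain ⟨Z, s, -, -, z3, z4, z5, -⟩ := B.full rfl
    have χZ := (z3 χ).mpr (Finset.mem_union.mp c1)
    have z6 := (z4 χ χZ).imp And.left And.left
    rcases k1 with rfl | rfl
    · have := T.not_BT hG hP z6 (z5 χ χZ) (q := 3) (k := 2) (a := 5) (r := 34) Nat.prime_three
        (by norm_num) c2 (by rw [hc]) (by norm_num) (by norm_num) (by norm_num) (by norm_num)
        (by norm_num) rfl (by norm_num) b3
      exact absurd (this.symm.trans b1.1.2) (by simp)
    · have := T.not_BT hG hP z6 (z5 χ χZ) (q := 2) (k := 4) (a := 7) (r := 459) Nat.prime_two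
        (by norm_num) c2 (by rw [hc]) (by norm_num) (by norm_num) (by norm_num) (by norm_num)
        (by norm_num) rfl (by norm_num) b3
      exact absurd (this.symm.trans b1.2) (by simp)
  · exfalso
    obtain ⟨χ, c1, c2⟩ := cnt_pos.mp (show 0 < _ by rw [o4 k 324 (by norm_num)]; decide)
    have χX : χ ∈ B.X := (Finset.mem_union.mp c1).resolve_right fun k => by
      have := B.modY k
      omega
    have := T.not_BT hG hP (B.sgn χ χX) (B.valX χ χX) (q := 2) (k := 2) (a := 7) (r := 323)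
      Nat.prime_two (by norm_num) c2 (by rw [hc]) (by norm_num) (by norm_num) (by norm_num)
      (by norm_num) (by norm_num) rfl (by norm_num) b3
    exact absurd (this.symm.trans b1.1.1) (by simp)
  · exact ⟨B, hc, o4 k⟩
  · exfalso
    obtain ⟨g1, g2⟩ := k5 t ht
    obtain ⟨L, l1, l2, l3⟩ := T.mem_adm hG B he hc (o4 k) g1
    obtain ⟨z, hz, h128⟩ := exists_two_central (G := G) (k := 7) (by norm_num) (by rw [hG]; norm_num)
    obtain ⟨s, hs, hi⟩ := T.inverter
    obtain ⟨u, hu, -⟩ := exists_invol_col na hz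
    obtain ⟨v, hv, -⟩ := exists_invol_col na hs
    exact g2 _ (l3 hz hu (fun _ => rfl) h128) _
      (l3 hs hv (T.g17_of hs hi hv) (hs ▸ orderOf_dvd_cent s)) (bil_eq B he hG hc l1 l2 hz hs hu hv)

theorem step5 (hG : Nat.card G = 50232960) :
    (∀ P : Subgroup G, Nat.card P = 5 → Nat.card (Subgroup.centralizer (P : Set G)) = 30 ∧
      Nat.card (Subgroup.normalizer (P : Set G)) = 60) ∧
    ∀ z : G, orderOf z = 2 → Nat.card (Subgroup.centralizer ({z} : Set G)) = 1920 ∧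
      (∀ t : G, orderOf t = 2 → IsConj z t) ∧ ∀ P : Subgroup G, Nat.card P = 5 → nInv P z = 20 := by
  classical
  obtain ⟨T⟩ := nonempty_two hG
  have na := hna hG
  refine ⟨fun P hP => ?_, ?_⟩
  · obtain ⟨B, hc, -⟩ := step5a hG T hP
    exact ⟨hc, card_norm B hc⟩
  obtain ⟨z, hz, h128⟩ := exists_two_central (G := G) (k := 7) (by norm_num) (by rw [hG]; norm_num)
  obtain ⟨u, hu, -⟩ := exists_invol_col na hz
  have key : ∀ P : Subgroup G, Nat.card P = 5 →
      (Nat.card (Subgroup.centralizer ({z} : Set G)) = 1920 ∧ nInv P z = 20) ∧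
        ∀ t : G, orderOf t = 2 → IsConj z t := fun P hP => by
    obtain ⟨B, hc, h⟩ := step5a hG T hP
    obtain ⟨L, -, -, l3⟩ := T.mem_adm hG B (by norm_num) hc h j5.1
    have k := j5.2.1 _ (l3 hz hu (fun _ => rfl) h128)
    refine ⟨k, fun t ht => ?_⟩
    obtain ⟨v, hv, -⟩ := exists_invol_col na ht
    obtain ⟨x, hx, ox⟩ := B.exists_sing
    obtain ⟨y, oy, hy, -⟩ := exists_elt_cen hP Nat.prime_three (by norm_num) (by rw [hc]; norm_num)
    have cW : Nat.card (Subgroup.zpowers (x * y)) = 15 := by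
      rw [Nat.card_zpowers, Commute.orderOf_mul_eq_mul_orderOf_of_coprime (hy x hx)
        (by rw [ox, oy]; norm_num), ox, oy]
    exact isConj_of_nInv (W := Subgroup.zpowers (x * y))
      (by simpa using mul_mem (H84.le_Cen_of_card hP hx) hy) (by rw [cW]; decide) hz ht
      (by rw [hc, cW, show nInv P z = 20 from k.2]; norm_num)
      (j5.2.2 _ (l3 ht hv (fun _ => rfl) (ht ▸ orderOf_dvd_cent t)))
  obtain ⟨P, hP⟩ := exists_subgroup_prime (G := G) 5 (by rw [hG]; norm_num)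
  intro t ht
  have c := (key P hP).2 t ht
  refine ⟨(H9.card_centralizer_eq_of_isConj c).symm.trans (key P hP).1.1,
    fun t' ht' => c.symm.trans ((key P hP).2 t' ht'), fun P' hP' => ?_⟩
  rw [← (key P' hP').1.2]
  exact Nat.card_congr (Equiv.subtypeEquivRight fun a =>
    ⟨fun h => ⟨c.trans h.1, h.2⟩, fun h => ⟨c.symm.trans h.1, h.2⟩⟩)

end H8.J3O
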