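import Mathlib
import Cfsg.Agent.Base
import Cfsg.Agent.Lib.J3O.EndA
import Cfsg.Agent.Lib.J3O.P5

/-! The centre of a Sylow 2-subgroup of a simple group of order 50232960. -/

set_option autoImplicit false
set_option linter.unusedSectionVars false
set_option linter.style.haveILetI false

open H17.Ord Subgroup

namespace H8.J3O

variable {G : Type*} [Group G] [Finite G] [IsSimpleGroup G]

theorem hyp_of (hG : Nat.card G = 50232960) {z : G} (hz : orderOf z = 2) :
    Hyp (centralizer ({z} : Set G)) ⟨z, mem_centralizer_singleton_iff.mpr rfl⟩ where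
  card := ((step5 hG).2 z hz).1
  ord := by rwa [orderOf_mk]
  cen g := Subtype.ext (mem_centralizer_singleton_iff.mp g.2)
  five F hF := by
    have i := (centralizer ({z} : Set G)).subtype_injective
    obtain ⟨a, b⟩ := (step5 hG).1 (F.map (centralizer ({z} : Set G)).subtype)
      ((card_map_of_injective i).trans hF)
    rw [← a, ← b, ← card_map_of_injective i, ← card_map_of_injective (K := normalizer _) i]
    exact ⟨card_dvd_of_le (map_centralizer_le_centralizer_image _ _),
      card_dvd_of_le (le_normalizer_map _)⟩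

theorem center_two (hG : Nat.card G = 50232960) (S : Sylow 2 G) {z : G} (hz : orderOf z = 2)
    (z2 : z ∈ centralizer ((S : Subgroup G) : Set G)) {t : G} (t1 : t ∈ (S : Subgroup G))
    (t2 : t ∈ centralizer ((S : Subgroup G) : Set G)) : t = 1 ∨ t = z := by
  have h := hyp_of hG hz
  set H := centralizer ({z} : Set G)
  have SH : (S : Subgroup G) ≤ H := fun y hy => mem_centralizer_singleton_iff.mpr (z2 y hy)
  obtain ⟨E, hE, zE, cE, ⟨φ⟩⟩ := h.exists_E
  have pE : IsPGroup 2 E := IsPGroup.of_card (n := 5) cE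
  have ES : E ≤ (S : Subgroup G).subgroupOf H := pE.le_sylow_of_normal (S.subtype SH)
  have ZE : ∀ w (k : w ∈ (S : Subgroup G)), w ∈ centralizer ((S : Subgroup G) : Set G) →
      (⟨w, SH k⟩ : H) ∈ centralizer (E : Set H) := fun w k k' y hy => Subtype.ext (k' y (ES hy))
  rcases h.dichotomy zE cE with d | d
  · exact (d _ (h.cen_le zE cE φ (ZE t t1 t2)) (ZE t t1 t2)).imp (congrArg Subtype.val)
      (congrArg Subtype.val)
  by_contra ht
  rw [not_or] at ht
  have ab : ∀ x ∈ E, ∀ y ∈ E, x * y = y * x := fun x hx y hy => by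
    have := d _ (mul_mem hx hy)
    calc x * y = (x * y)⁻¹ := eq_inv_of_mul_eq_one_left this
      _ = y * x := by
        rw [mul_inv_rev, ← eq_inv_of_mul_eq_one_left (d x hx), ← eq_inv_of_mul_eq_one_left (d y hy)]
  set A := E.map H.subtype
  have cA : Nat.card A = 32 := (card_map_of_injective H.subtype_injective).trans cE
  have AS : A ≤ S := by rintro _ ⟨y, hy, rfl⟩; exact ES hy
  have dA : ∀ y ∈ A, y * y = 1 := by rintro _ ⟨y, hy, rfl⟩; exact congrArg Subtype.val (d y hy)
  have abA : ∀ x ∈ A, ∀ y ∈ A, x * y = y * x := by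
    rintro _ ⟨x, hx, rfl⟩ _ ⟨y, hy, rfl⟩; exact congrArg Subtype.val (ab x hx y hy)
  have zA : z ∈ A := ⟨_, zE, rfl⟩
  have z1 : z ≠ 1 := H9.ne_one_of_orderOf_two hz
  have HN : H ≤ normalizer (A : Set G) := fun g hg => mem_normalizer_fintype (by
    rintro _ ⟨y, hy, rfl⟩; exact ⟨_, hE.conj_mem y hy ⟨g, hg⟩, rfl⟩)
  have ZA : ∀ w ∈ (S : Subgroup G), w ∈ centralizer ((S : Subgroup G) : Set G) → w ∈ A :=
    fun w k k' => ⟨_, h.cen_le zE cE φ (ZE w k k'), rfl⟩
  have NH : normalizer (A : Set G) ≤ H := by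
    have a := orbit_mul (normalizer (A : Set G)) z
    rw [inf_eq_right.mpr HN, h.card] at a
    set Ω := {w | ∃ n ∈ normalizer (A : Set G), n * z * n⁻¹ = w}
    have b : Ω ⊆ (A : Set G) \ {1} := by
      rintro _ ⟨n, hn, rfl⟩
      exact ⟨(mem_normalizer_iff.mp hn z).mp zA, fun k => z1 (by simpa using k)⟩
    have b1 := Set.ncard_le_ncard b
    rw [Set.ncard_diff_singleton_of_mem (one_mem A), ← Nat.card_coe_set_eq (A : Set G),
      show Nat.card (A : Set G) = 32 from cA] at b1
    obtain ⟨x, hx⟩ := h.exists_five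
    have c := ncard_mod (p := 5) (x := x.1) (by rw [← hx, ← orderOf_coe, pow_orderOf_eq_one]) Ω (by
      rintro _ ⟨n, hn, rfl⟩
      exact ⟨x * n, mul_mem (HN x.2) hn, by group⟩)
    rw [show {y ∈ Ω | x.1 * y * x.1⁻¹ = y} = {z} from Set.eq_singleton_iff_unique_mem.mpr
      ⟨⟨⟨1, one_mem _, by simp⟩, by
        rw [mem_centralizer_singleton_iff.mp x.2, mul_inv_cancel_right]⟩, fun w hw => ?_⟩,
      Set.ncard_singleton] at c; swap
    · obtain ⟨⟨y, hy, rfl⟩, k⟩ := b hw.1
      refine congrArg Subtype.val ((mem_zpowers_two h.ord (h.inf_eq hx pE zE ▸ ⟨hy,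
        mem_centralizer_singleton_iff.mpr (Subtype.ext
          (mul_inv_eq_iff_eq_mul.mp hw.2).symm)⟩)).resolve_left fun e => k (congrArg Subtype.val e))
    have e := card_subgroup_dvd_card (normalizer (A : Set G))
    rw [← a, hG] at e
    have f : Ω.ncard = 1 := by
      generalize Ω.ncard = m at *
      unfold Nat.ModEq at c
      interval_cases m <;> omega
    exact (eq_of_le_of_card_ge HN (by rw [← a, f, h.card])).ge
  have tr : ∀ w ∈ (S : Subgroup G), w ∈ centralizer ((S : Subgroup G) : Set G) → w ≠ 1 →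
      ∃ n ∈ normalizer ((S : Subgroup G) : Set G), n * z * n⁻¹ = w := fun w k k' w1 => by
    obtain ⟨g, hg⟩ := isConj_iff.mp (((step5 hG).2 z hz).2.1 w
      (H9.orderOf_eq_two_of_mul_self w1 (dA w (ZA w k k'))))
    obtain ⟨n, hn, e⟩ := S.conj_eq_normalizer_conj_of_mem_centralizer z g⁻¹ z2
      (by rwa [inv_inv, hg])
    exact ⟨n⁻¹, inv_mem hn, by rw [inv_inv, ← e, inv_inv, hg]⟩
  obtain ⟨n, hn, nz⟩ := tr t t1 t2 ht.1
  set A' := A.map (MulAut.conj n).toMonoidHom
  have cA' : Nat.card A' = 32 := (card_map_of_injective (MulAut.conj n).injective).trans cA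
  have AS' : A' ≤ S := by rintro _ ⟨y, hy, rfl⟩; exact (mem_normalizer_iff.mp hn y).mp (AS hy)
  have abA' : ∀ x ∈ A', ∀ y ∈ A', x * y = y * x := by
    rintro _ ⟨x, hx, rfl⟩ _ ⟨y, hy, rfl⟩; rw [← map_mul, abA x hx y hy, map_mul]
  obtain ⟨i, i1, i2⟩ : ∃ i ∈ A', i ∉ A := by
    by_contra! k
    have := NH (mem_normalizer_fintype fun y hy => k _ ⟨y, hy, rfl⟩ : n ∈ _)
    rw [mem_centralizer_singleton_iff.mp this, mul_inv_cancel_right] at nz
    exact ht.2 nz.symm
  have i3 : i * i = 1 := by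
    obtain ⟨y, hy, rfl⟩ := i1
    rw [← map_mul, dA y hy, map_one]
  have b8 : Nat.card ↥(A ⊓ centralizer {i}) ≤ 8 := by
    refine le_trans (card_le_of_le ?_) (((card_map_of_injective H.subtype_injective).trans_le
      (h.bound zE cE φ ab (i := ⟨i, SH (AS' i1)⟩) (fun k => i2 ⟨_, k, rfl⟩) (Subtype.ext i3))))
    rintro _ ⟨⟨y, hy, rfl⟩, k⟩
    exact ⟨y, ⟨hy, mem_centralizer_singleton_iff.mpr
      (Subtype.ext (mem_centralizer_singleton_iff.mp k))⟩, rfl⟩
  have cS : Nat.card S = 2 ^ 7 := H36.card_sylow_eq_pow S (by rw [hG]; norm_num) (by rw [hG]; norm_num)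
  have j1 := H1.card_sup_mul_card_inf_of_le_normalizer (H := A') (N := A) ((AS'.trans SH).trans HN)
  have j2 := card_le_of_le (sup_le AS' AS)
  have j3 : A' ⊓ A ≤ A ⊓ centralizer {i} := fun y hy =>
    ⟨hy.2, mem_centralizer_singleton_iff.mpr (abA' y hy.1 i i1)⟩
  have j4 := card_le_of_le j3
  rw [cA, cA'] at j1
  rw [cS] at j2
  have j5 : Nat.card ↥(A' ⊓ A) = 8 := by nlinarith
  have j6 : A' ⊔ A = S := eq_of_le_of_card_ge (sup_le AS' AS) (by rw [j5] at j1; omega)
  have j7 : A' ⊓ A = A ⊓ centralizer {i} := eq_of_le_of_card_ge j3 (by omega)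
  have j8 : {w | ∃ n ∈ normalizer ((S : Subgroup G) : Set G), n * z * n⁻¹ = w} =
      ((A' ⊓ A : Subgroup G) : Set G) \ {1} := by
    ext w
    constructor
    · rintro ⟨m, hm, rfl⟩
      have k := conj_mem_cen hm z2
      exact ⟨j7.ge ⟨ZA _ ((mem_normalizer_iff.mp hm z).mp (AS zA)) k,
        mem_centralizer_singleton_iff.mpr (k i (AS' i1)).symm⟩, fun k => z1 (by simpa using k)⟩
    · rintro ⟨k, k'⟩
      refine tr w (AS k.2) (fun y hy => mem_centralizer_singleton_iff.mp ?_) k'
      rw [← j6] at hy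
      exact (sup_le (fun y hy => mem_centralizer_singleton_iff.mpr (abA' y hy w k.1))
        (fun y hy => mem_centralizer_singleton_iff.mpr (abA y hy w k.2)) :
          A' ⊔ A ≤ centralizer {w}) hy
  have j9 := orbit_mul (normalizer ((S : Subgroup G) : Set G)) z
  rw [j8, Set.ncard_diff_singleton_of_mem (one_mem (A' ⊓ A)),
    ← Nat.card_coe_set_eq ((A' ⊓ A : Subgroup G) : Set G),
    show Nat.card ((A' ⊓ A : Subgroup G) : Set G) = 8 from j5] at j9
  have := (Dvd.intro _ j9).trans (card_subgroup_dvd_card _)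
  rw [hG] at this
  omega

theorem center_cyclic (hG : Nat.card G = 50232960) (S : Sylow 2 G) :
    IsCyclic (center (S : Subgroup G)) := by
  by_cases h : center (S : Subgroup G) = ⊥
  · rw [h]; infer_instance
  obtain ⟨z, z1, hz⟩ := H9.exists_involution_of_isPGroup (S.isPGroup'.to_subgroup _) h
  have k : ∀ w ∈ center (S : Subgroup G), w.1 ∈ centralizer ((S : Subgroup G) : Set G) :=
    fun w hw y hy => congrArg Subtype.val (mem_center_iff.mp hw ⟨y, hy⟩)
  refine ⟨⟨z, z1⟩, fun t => ?_⟩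
  rcases center_two hG S ((orderOf_coe z).trans hz) (k z z1) t.1.2 (k t t.2) with e | e
  · exact ⟨0, Subtype.ext (Subtype.ext (by simp [e]))⟩
  · exact ⟨1, Subtype.ext (Subtype.ext (by simp [e]))⟩

end H8.J3O
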